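import Cfsg.Agent.FFourGraph.Check
import Mathlib.FieldTheory.Finite.Basic
import Mathlib.GroupTheory.OrderOfElement

/-!
# Primes dividing cyclotomic values
-/

set_option autoImplicit false

namespace CfsgLib.FFourGraph

open CfsgLib.CoxTori

variable {s : ℕ} [hs : Fact s.Prime] {q : ℕ}

/-- The multiplicative order of `q` modulo a divisor of a cyclotomic value. -/
theorem order_of_dvd_cyc (hs2 : s ≠ 2) (hsq : ¬ s ∣ q) {d : ℕ}
    (hd : d ∈ [1, 2, 3, 4, 6, 8, 12]) (h : (s : ℤ) ∣ pev (q : ℤ) (cyc d)) :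
    orderOf (q : ZMod s) = d ∨ orderOf (q : ZMod s) ∣ 2 ∧ d ∈ [1, 2, 3, 6] := by
  set x := (q : ZMod s) with hx
  have hx0 : x ≠ 0 := fun h0 => hsq ((ZMod.natCast_eq_zero_iff _ _).1 h0)
  have h2 : (2 : ZMod s) ≠ 0 := by
    intro h0
    have h1 : ((2 : ℕ) : ZMod s) = 0 := by exact_mod_cast h0
    exact hs2 ((Nat.prime_dvd_prime_iff_eq hs.out Nat.prime_two).1
      ((ZMod.natCast_eq_zero_iff _ _).1 h1))
  have hm1 : ∀ {y : ZMod s}, y = -1 → y ≠ 1 := fun {y} e e1 => h2 (by linear_combination e - e1)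
  have h' := (ZMod.intCast_zmod_eq_zero_iff_dvd _ _).2 h
  simp only [List.mem_cons, List.not_mem_nil, or_false] at hd
  have : Fact (Nat.Prime 2) := ⟨Nat.prime_two⟩
  have : Fact (Nat.Prime 3) := ⟨Nat.prime_three⟩
  rcases hd with rfl | rfl | rfl | rfl | rfl | rfl | rfl <;>
    simp only [cyc, pev_cons, pev_nil, Int.cast_add, Int.cast_mul, Int.cast_neg, Int.cast_one,
      Int.cast_zero, Int.cast_natCast, ← hx, mul_zero, add_zero, mul_one] at h'
  · left; exact orderOf_eq_one_iff.2 (by linear_combination h')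
  · exact Or.inr ⟨orderOf_dvd_of_pow_eq_one (by linear_combination (x - 1) * h'), by simp⟩
  · have h3 : x ^ 3 = 1 := by linear_combination (x - 1) * h'
    rcases (Nat.dvd_prime Nat.prime_three).1 (orderOf_dvd_of_pow_eq_one h3) with e | e
    · exact Or.inr ⟨by rw [e]; exact one_dvd 2, by simp⟩
    · exact Or.inl e
  · left
    have e1 : x ^ 2 = -1 := by linear_combination h'
    exact orderOf_eq_prime_pow (p := 2) (n := 1) (hm1 (by rw [pow_one, e1]))
      (by linear_combination (x ^ 2 - 1) * h')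
  · have e3 : x ^ 3 = -1 := by linear_combination (x + 1) * h'
    have h6 : orderOf x ∈ Nat.divisors 6 := Nat.mem_divisors.2
      ⟨orderOf_dvd_of_pow_eq_one (by linear_combination (x ^ 3 - 1) * e3), by norm_num⟩
    have hn3 : ¬ orderOf x ∣ 3 := fun hd3 => hm1 e3 (orderOf_dvd_iff_pow_eq_one.1 hd3)
    rw [show Nat.divisors 6 = {1, 2, 3, 6} by decide] at h6
    simp only [Finset.mem_insert, Finset.mem_singleton] at h6
    rcases h6 with e | e | e | e <;> rw [e] at hn3 <;> simp_all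
  · left
    have e1 : x ^ 4 = -1 := by linear_combination h'
    exact orderOf_eq_prime_pow (p := 2) (n := 2) (hm1 (by norm_num; exact e1))
      (by norm_num; linear_combination (x ^ 4 - 1) * e1)
  · left
    have e6 : x ^ 6 = -1 := by linear_combination (x ^ 2 + 1) * h'
    have h12 : orderOf x ∈ Nat.divisors 12 := Nat.mem_divisors.2
      ⟨orderOf_dvd_of_pow_eq_one (by linear_combination (x ^ 6 - 1) * e6), by norm_num⟩
    have hn6 : ¬ orderOf x ∣ 6 := fun hd6 => hm1 e6 (orderOf_dvd_iff_pow_eq_one.1 hd6)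
    have hn4 : ¬ orderOf x ∣ 4 := by
      intro hd4
      have h4 : x ^ 4 = 1 := orderOf_dvd_iff_pow_eq_one.1 hd4
      have e2 : x ^ 2 = 2 := by linear_combination h4 - h'
      have h30 : ((3 : ℕ) : ZMod s) = 0 := by
        push_cast
        linear_combination h4 - (x ^ 2 + 2) * e2
      obtain rfl : s = 3 := (Nat.prime_dvd_prime_iff_eq hs.out Nat.prime_three).1
        ((ZMod.natCast_eq_zero_iff _ _).1 h30)
      have h1 : x ^ 2 = 1 := ZMod.pow_card_sub_one_eq_one hx0
      exact one_ne_zero (α := ZMod 3) (by linear_combination h1 - e2)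
    rw [show Nat.divisors 12 = {1, 2, 3, 4, 6, 12} by decide] at h12
    simp only [Finset.mem_insert, Finset.mem_singleton] at h12
    rcases h12 with e | e | e | e | e | e <;> rw [e] at hn6 hn4 <;> simp_all

/-- A prime divides the cyclotomic value at the order of `q`. -/
theorem dvd_cyc_order {d : ℕ} (hd : d ∈ [1, 2, 3, 4, 6, 8, 12])
    (he : orderOf (q : ZMod s) = d) : (s : ℤ) ∣ pev (q : ℤ) (cyc d) := by
  set x := (q : ZMod s) with hx
  refine (ZMod.intCast_zmod_eq_zero_iff_dvd _ _).1 ?_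
  have hd0 : x ^ d = 1 := he ▸ pow_orderOf_eq_one x
  have hne : ∀ m, 0 < m → m < d → x ^ m - 1 ≠ 0 := fun m h0 hm h1 => by
    have := Nat.le_of_dvd h0 (orderOf_dvd_of_pow_eq_one (sub_eq_zero.1 h1))
    omega
  simp only [List.mem_cons, List.not_mem_nil, or_false] at hd
  rcases hd with rfl | rfl | rfl | rfl | rfl | rfl | rfl <;>
    simp only [cyc, pev_cons, pev_nil, Int.cast_add, Int.cast_mul, Int.cast_neg, Int.cast_one,
      Int.cast_zero, Int.cast_natCast, ← hx, mul_zero, add_zero, mul_one]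
  · linear_combination hd0
  · exact (mul_eq_zero.1 (show (x ^ 1 - 1) * (1 + x) = 0 by linear_combination hd0)).resolve_left
      (hne 1 (by norm_num) (by norm_num))
  · exact (mul_eq_zero.1 (show (x ^ 1 - 1) * (1 + x * (1 + x)) = 0 by
      linear_combination hd0)).resolve_left (hne 1 (by norm_num) (by norm_num))
  · exact (mul_eq_zero.1 (show (x ^ 2 - 1) * (1 + x * (0 + x)) = 0 by
      linear_combination hd0)).resolve_left (hne 2 (by norm_num) (by norm_num))
  · have h3 : x ^ 3 + 1 = 0 := (mul_eq_zero.1 (show (x ^ 3 - 1) * (x ^ 3 + 1) = 0 by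
      linear_combination hd0)).resolve_left (hne 3 (by norm_num) (by norm_num))
    refine (mul_eq_zero.1 (show (x + 1) * (1 + x * (-1 + x)) = 0 by
      linear_combination h3)).resolve_left fun h1 => ?_
    exact hne 2 (by norm_num) (by norm_num) (by linear_combination (x - 1) * h1)
  · exact (mul_eq_zero.1 (show (x ^ 4 - 1) * (1 + x * (0 + x * (0 + x * (0 + x)))) = 0 by
      linear_combination hd0)).resolve_left (hne 4 (by norm_num) (by norm_num))
  · have h6 : x ^ 6 + 1 = 0 := (mul_eq_zero.1 (show (x ^ 6 - 1) * (x ^ 6 + 1) = 0 by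
      linear_combination hd0)).resolve_left (hne 6 (by norm_num) (by norm_num))
    refine (mul_eq_zero.1 (show (x ^ 2 + 1) * (1 + x * (0 + x * (-1 + x * (0 + x)))) = 0 by
      linear_combination h6)).resolve_left fun h1 => ?_
    exact hne 4 (by norm_num) (by norm_num) (by linear_combination (x ^ 2 - 1) * h1)

omit hs in
/-- A prime dividing a cyclotomic factor divides the product. -/
theorem dvd_cycProd {ds : List ℕ} {d : ℕ} (hd : d ∈ ds) (h : (s : ℤ) ∣ pev (q : ℤ) (cyc d)) :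
    (s : ℤ) ∣ pev (q : ℤ) (cycProd ds) := by
  induction ds with
  | nil => simp at hd
  | cons e ds ih =>
    simp only [cycProd, List.foldr_cons, pev_pmul]
    rcases List.mem_cons.1 hd with rfl | hd
    · exact h.mul_right _
    · exact (ih hd).mul_left _

/-- A prime dividing a product of cyclotomic values divides one of them. -/
theorem exists_dvd_cyc {ds : List ℕ} (h : (s : ℤ) ∣ pev (q : ℤ) (cycProd ds)) :
    ∃ d ∈ ds, (s : ℤ) ∣ pev (q : ℤ) (cyc d) := by
  induction ds with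
  | nil =>
    exfalso
    simp only [cycProd, List.foldr_nil, pev_cons, pev_nil, mul_zero, add_zero] at h
    exact hs.out.not_dvd_one (by exact_mod_cast h)
  | cons d ds ih =>
    simp only [cycProd, List.foldr_cons, pev_pmul] at h
    rcases (Nat.prime_iff_prime_int.1 hs.out).dvd_mul.1 h with h | h
    · exact ⟨d, List.mem_cons_self, h⟩
    · obtain ⟨e, he, he'⟩ := ih h
      exact ⟨e, List.mem_cons_of_mem _ he, he'⟩

/-- The order of `q` is one of the degrees of the factors, or is at most two. -/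
theorem order_of_dvd_prod (hs2 : s ≠ 2) (hsq : ¬ s ∣ q) {ds : List ℕ}
    (hds : ∀ d ∈ ds, d ∈ [1, 2, 3, 4, 6, 8, 12]) (h : (s : ℤ) ∣ pev (q : ℤ) (cycProd ds)) :
    orderOf (q : ZMod s) ∈ ds ∨
      orderOf (q : ZMod s) ∣ 2 ∧ ∃ d ∈ ds, d ∈ [1, 2, 3, 6] := by
  obtain ⟨d, hd, hd'⟩ := exists_dvd_cyc h
  rcases order_of_dvd_cyc hs2 hsq (hds d hd) hd' with e | ⟨e, e'⟩
  · exact Or.inl (e ▸ hd)
  · exact Or.inr ⟨e, d, hd, e'⟩

/-- The order of `q` modulo an odd prime divisor of the order of the group. -/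
theorem order_mem (hs2 : s ≠ 2) (hq : ∃ n, q = 2 ^ n)
    (h : s ∣ q ^ 24 * (q ^ 2 - 1) * (q ^ 6 - 1) * (q ^ 8 - 1) * (q ^ 12 - 1)) :
    ¬ s ∣ q ∧ orderOf (q : ZMod s) ∈ [1, 2, 3, 4, 6, 8, 12] := by
  obtain ⟨n, rfl⟩ := hq
  have hsq : ¬ s ∣ 2 ^ n := fun h' =>
    hs2 ((Nat.prime_dvd_prime_iff_eq hs.out Nat.prime_two).1 (hs.out.dvd_of_dvd_pow h'))
  refine ⟨hsq, ?_⟩
  have key : ∀ d, s ∣ (2 ^ n) ^ d - 1 → orderOf ((2 ^ n : ℕ) : ZMod s) ∣ d := by
    intro d hd
    refine orderOf_dvd_of_pow_eq_one ?_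
    have h1 := (ZMod.natCast_eq_zero_iff _ _).2 hd
    rw [Nat.cast_sub (Nat.one_le_pow _ _ (by positivity)), sub_eq_zero, Nat.cast_pow,
      Nat.cast_one] at h1
    exact h1
  have : orderOf ((2 ^ n : ℕ) : ZMod s) ∈ Nat.divisors 24 ∧
      (orderOf ((2 ^ n : ℕ) : ZMod s) ∣ 8 ∨ orderOf ((2 ^ n : ℕ) : ZMod s) ∣ 12) := by
    rcases hs.out.dvd_mul.1 h with h | h
    · rcases hs.out.dvd_mul.1 h with h | h
      · rcases hs.out.dvd_mul.1 h with h | h
        · rcases hs.out.dvd_mul.1 h with h | h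
          · exact absurd (hs.out.dvd_of_dvd_pow h) hsq
          · exact ⟨Nat.mem_divisors.2 ⟨(key _ h).trans (by norm_num), by norm_num⟩,
              Or.inl ((key _ h).trans (by norm_num))⟩
        · exact ⟨Nat.mem_divisors.2 ⟨(key _ h).trans (by norm_num), by norm_num⟩,
            Or.inr ((key _ h).trans (by norm_num))⟩
      · exact ⟨Nat.mem_divisors.2 ⟨(key _ h).trans (by norm_num), by norm_num⟩, Or.inl (key _ h)⟩
    · exact ⟨Nat.mem_divisors.2 ⟨(key _ h).trans (by norm_num), by norm_num⟩, Or.inr (key _ h)⟩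
  revert this
  generalize orderOf ((2 ^ n : ℕ) : ZMod s) = e
  rw [show Nat.divisors 24 = {1, 2, 3, 4, 6, 8, 12, 24} by decide]
  simp only [Finset.mem_insert, Finset.mem_singleton]
  rintro ⟨rfl | rfl | rfl | rfl | rfl | rfl | rfl | rfl, he⟩ <;> revert he <;> decide

end CfsgLib.FFourGraph
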