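import Cfsg.Agent.LangTorus.GoodF4
import Cfsg.Agent.ChevTorus.Order
import Cfsg.Agent.Chevalley.OrderFormula
import Cfsg.Agent.Weyl.Degrees

/-!
# Orders for type F4, from the tables of type F4 alone
-/

set_option autoImplicit false

namespace CfsgLib.FFourGraph

open Cfsg.Lie CfsgLib.Chevalley CfsgLib.ChevTorus

variable {F : Type*} [Field F] [Fintype F]

/-- The order of the diagonal subgroup. -/
theorem natCard_diag {q : ℕ} (hq : Fintype.card F = q) :
    1 * Nat.card (chevF4.diagonalSubgroup F) = (q - 1) ^ chevF4.rank := by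
  subst hq
  have h := card_diagonalSubgroup (F := F) LangTorus.goodWF4 smithF4
  have e : (∏ i : Fin 4, (Fintype.card F - 1).gcd ((![1, 1, 1, 1] : Fin 4 → ℕ) i)) = 1 := by
    simp [Fin.prod_univ_succ]
  exact (congrArg (· * _) e).symm.trans h

/-- The order of the group. -/
theorem natCard_group {q : ℕ} (hq : Fintype.card F = q) : Nat.card ↥(chevF4.group F) =
    q ^ 24 * (q ^ 2 - 1) * (q ^ 6 - 1) * (q ^ 8 - 1) * (q ^ 12 - 1) := by
  have h := natCard_group_degrees (F := F) LangTorus.goodWF4 Weyl.rootF4_good (c := 1) (N := 24)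
    hq [2, 6, 8, 12] (by decide +kernel) (by decide +kernel) (natCard_diag hq)
    (fun i => @Weyl.poincareF4 ℕ _ i q)
  simpa [mul_assoc] using h

end CfsgLib.FFourGraph
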