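import Cfsg.Agent.FFourGraph.Data
import Cfsg.Agent.CoxTori.Poly
import Cfsg.Agent.Weyl.DataF4

/-!
# The Weyl group of type F4 as a list of matrices: checkable conditions
-/

set_option autoImplicit false

namespace CfsgLib.FFourGraph

open CfsgLib.CoxTori (pev pmul pneg peq)

/-- The entry of a matrix given by the list of its sixteen entries. -/
def ent (E : List ℤ) (j l : ℕ) : ℤ := E.getD (4 * j + l) 0

/-- Right multiplication by the `i`-th simple reflection. -/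
def stepL (i : ℕ) (E : List ℤ) : List ℤ :=
  (List.range 16).map fun m => ent E (m / 4) (m % 4) -
    if m % 4 = i then ((List.range 4).map fun k => ent E (m / 4) k * Weyl.certF4.a (n := 4) k i).sum
    else 0

/-- The unit matrix. -/
def idL : List ℤ := (List.range 16).map fun m => if m / 4 = m % 4 then 1 else 0

/-- The entries of an encoded matrix. -/
def matE (c : ℕ) : List ℤ := (List.range 16).map fun m => ((c / 64 ^ m % 64 : ℕ) : ℤ) - 32

/-- The entry at an index. -/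
def entryAt (n : ℕ) : Option (ℕ × ℕ) := wData[n / 34]?.bind (·[n % 34]?)

/-- The list is closed under right multiplication by the simple reflections. -/
def chkClosed (ch : List (ℕ × ℕ)) : Bool :=
  ch.all fun e => (List.range 4).all fun i =>
    match entryAt (e.2 / 2048 ^ i % 2048) with
    | some x => matE x.1 == stepL i (matE e.1)
    | none => false

/-- Determinant of two rows and two columns. -/
def m2 (a : ℕ → ℕ → ℤ) (i j k l : ℕ) : ℤ := a i k * a j l - a i l * a j k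

/-- A minor of size three. -/
def m3 (a : ℕ → ℕ → ℤ) (i j k : ℕ) : ℤ :=
  a i i * m2 a j k j k - a i j * m2 a j k i k + a i k * m2 a j k i j

/-- The determinant of size four. -/
def d4 (a : ℕ → ℕ → ℤ) : ℤ :=
  m2 a 0 1 0 1 * m2 a 2 3 2 3 - m2 a 0 1 0 2 * m2 a 2 3 1 3 + m2 a 0 1 0 3 * m2 a 2 3 1 2 +
    m2 a 0 1 1 2 * m2 a 2 3 0 3 - m2 a 0 1 1 3 * m2 a 2 3 0 2 + m2 a 0 1 2 3 * m2 a 2 3 0 1

/-- The coefficients of `det (x A - 1)`. -/
def coeffs (a : ℕ → ℕ → ℤ) : List ℤ :=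
  [1, -(a 0 0 + a 1 1 + a 2 2 + a 3 3),
    m2 a 0 1 0 1 + m2 a 0 2 0 2 + m2 a 0 3 0 3 + m2 a 1 2 1 2 + m2 a 1 3 1 3 + m2 a 2 3 2 3,
    -(m3 a 0 1 2 + m3 a 0 1 3 + m3 a 0 2 3 + m3 a 1 2 3), d4 a]

/-- The coefficient lists of some cyclotomic polynomials. -/
def cyc : ℕ → List ℤ
  | 1 => [-1, 1]
  | 2 => [1, 1]
  | 3 => [1, 1, 1]
  | 4 => [1, 0, 1]
  | 6 => [1, -1, 1]
  | 8 => [1, 0, 0, 0, 1]
  | 12 => [1, 0, -1, 0, 1]
  | _ => [0]

/-- The product of cyclotomic polynomials. -/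
def cycProd (ds : List ℕ) : List ℤ := ds.foldr (fun d p => pmul (cyc d) p) [1]

/-- The table of factorisations is correct, and has no forbidden pair. -/
def chkTab : Bool :=
  polyTab.all fun t => (peq t.1 (cycProd t.2) || peq t.1 (pneg (cycProd t.2))) &&
    t.2.all (fun d => [1, 2, 3, 4, 6, 8, 12].contains d) &&
    !(t.2.contains 3 && t.2.contains 4) && !(t.2.contains 3 && t.2.contains 6) &&
    !(t.2.contains 4 && t.2.contains 6) &&
    (!t.2.contains 8 || t.2 == [8]) && (!t.2.contains 12 || t.2 == [12])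

/-- The weights of the roots. -/
def rootV : List (List ℤ) :=
  [[0, 0, 0, -1], [0, 0, -1, 1], [0, -2, 1, 0], [-1, 0, 0, 0], [-2, 2, -1, 0], [-2, 0, 1, -1],
    [-2, 0, 0, 1], [1, -1, 0, 0], [0, 1, -1, 0], [0, -1, 1, -1], [0, -1, 0, 1], [-1, 1, 0, -1],
    [-1, 1, -1, 1], [-1, -1, 1, 0], [-2, 1, 0, 0], [2, 0, -1, 0], [2, -2, 1, -1], [2, -2, 0, 1],
    [1, 0, 0, -1], [1, 0, -1, 1], [1, -2, 1, 0], [0, 2, -1, -1], [0, 2, -2, 1], [0, 0, 1, -2],
    [0, 0, -1, 2], [0, -2, 2, -1], [0, -2, 1, 1], [-1, 2, -1, 0], [-1, 0, 1, -1], [-1, 0, 0, 1],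
    [-2, 2, 0, -1], [-2, 2, -1, 1], [-2, 0, 1, 0], [2, -1, 0, 0], [1, 1, -1, 0], [1, -1, 1, -1],
    [1, -1, 0, 1], [0, 1, 0, -1], [0, 1, -1, 1], [0, -1, 1, 0], [-1, 1, 0, 0], [2, 0, 0, -1],
    [2, 0, -1, 1], [2, -2, 1, 0], [1, 0, 0, 0], [0, 2, -1, 0], [0, 0, 1, -1], [0, 0, 0, 1]]

/-- A matrix applied to a vector. -/
def applyL (E v : List ℤ) : List ℤ :=
  [ent E 0 0 * v.getD 0 0 + ent E 0 1 * v.getD 1 0 + ent E 0 2 * v.getD 2 0 + ent E 0 3 * v.getD 3 0,
    ent E 1 0 * v.getD 0 0 + ent E 1 1 * v.getD 1 0 + ent E 1 2 * v.getD 2 0 + ent E 1 3 * v.getD 3 0,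
    ent E 2 0 * v.getD 0 0 + ent E 2 1 * v.getD 1 0 + ent E 2 2 * v.getD 2 0 + ent E 2 3 * v.getD 3 0,
    ent E 3 0 * v.getD 0 0 + ent E 3 1 * v.getD 1 0 + ent E 3 2 * v.getD 2 0 + ent E 3 3 * v.getD 3 0]

/-- The sum of `v`, `A v`, …, `A ^ (k - 1) v`, for vectors of length four. -/
def orbSum (E : List ℤ) : ℕ → List ℤ → List ℤ
  | 0, _ => [0, 0, 0, 0]
  | k + 1, v => List.zipWith (· + ·) v (orbSum E k (applyL E v))

/-- The orbit of every root spans a lattice whose index has only the prime divisors `2` and `3`. -/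
def chkSpan (E : List ℤ) : Bool :=
  rootV.all fun v =>
    let v1 := applyL E v
    let v2 := applyL E v1
    let v3 := applyL E v2
    let R := [v, v1, v2, v3]
    decide ((d4 fun i j => (R.getD i []).getD j 0).natAbs ∣ 6 ^ 8)

/-- The conditions on one matrix, with a witness `(root, period)` packed in `aux`. -/
def chkMat (E : List ℤ) (aux : ℕ) : Bool :=
  (match polyTab.find? (fun t => t.1 == coeffs (ent E)) with
    | some t => !(t.2.contains 8 || t.2.contains 12) || chkSpan E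
    | none => false) &&
  (E == idL || (decide (24 % (aux / 2048 ^ 5 % 2048) = 0) && decide (aux / 2048 ^ 4 % 2048 < 48) &&
    orbSum E (aux / 2048 ^ 5 % 2048) (rootV.getD (aux / 2048 ^ 4 % 2048) []) == [0, 0, 0, 0]))

end CfsgLib.FFourGraph
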