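import Cfsg.Agent.FFourGraph.Check

/-! Kernel evaluation of the checks on the matrices of the Weyl group of type F4. -/

set_option autoImplicit false

namespace CfsgLib.FFourGraph

theorem closed1 : chkClosed wData1 = true := by decide +kernel
theorem mat1 : wData1.all (fun e => chkMat (matE e.1) e.2) = true := by decide +kernel
theorem closed5 : chkClosed wData5 = true := by decide +kernel
theorem mat5 : wData5.all (fun e => chkMat (matE e.1) e.2) = true := by decide +kernel
theorem closed9 : chkClosed wData9 = true := by decide +kernel
theorem mat9 : wData9.all (fun e => chkMat (matE e.1) e.2) = true := by decide +kernel
theorem closed13 : chkClosed wData13 = true := by decide +kernel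
theorem mat13 : wData13.all (fun e => chkMat (matE e.1) e.2) = true := by decide +kernel
theorem closed17 : chkClosed wData17 = true := by decide +kernel
theorem mat17 : wData17.all (fun e => chkMat (matE e.1) e.2) = true := by decide +kernel
theorem closed21 : chkClosed wData21 = true := by decide +kernel
theorem mat21 : wData21.all (fun e => chkMat (matE e.1) e.2) = true := by decide +kernel
theorem closed25 : chkClosed wData25 = true := by decide +kernel
theorem mat25 : wData25.all (fun e => chkMat (matE e.1) e.2) = true := by decide +kernel
theorem closed29 : chkClosed wData29 = true := by decide +kernel
theorem mat29 : wData29.all (fun e => chkMat (matE e.1) e.2) = true := by decide +kernel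
theorem closed33 : chkClosed wData33 = true := by decide +kernel
theorem mat33 : wData33.all (fun e => chkMat (matE e.1) e.2) = true := by decide +kernel

end CfsgLib.FFourGraph
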