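import Cfsg.Agent.FFourGraph.Check

/-! Kernel evaluation of the checks on the matrices of the Weyl group of type F4. -/

set_option autoImplicit false

namespace CfsgLib.FFourGraph

theorem closed2 : chkClosed wData2 = true := by decide +kernel
theorem mat2 : wData2.all (fun e => chkMat (matE e.1) e.2) = true := by decide +kernel
theorem closed6 : chkClosed wData6 = true := by decide +kernel
theorem mat6 : wData6.all (fun e => chkMat (matE e.1) e.2) = true := by decide +kernel
theorem closed10 : chkClosed wData10 = true := by decide +kernel
theorem mat10 : wData10.all (fun e => chkMat (matE e.1) e.2) = true := by decide +kernel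
theorem closed14 : chkClosed wData14 = true := by decide +kernel
theorem mat14 : wData14.all (fun e => chkMat (matE e.1) e.2) = true := by decide +kernel
theorem closed18 : chkClosed wData18 = true := by decide +kernel
theorem mat18 : wData18.all (fun e => chkMat (matE e.1) e.2) = true := by decide +kernel
theorem closed22 : chkClosed wData22 = true := by decide +kernel
theorem mat22 : wData22.all (fun e => chkMat (matE e.1) e.2) = true := by decide +kernel
theorem closed26 : chkClosed wData26 = true := by decide +kernel
theorem mat26 : wData26.all (fun e => chkMat (matE e.1) e.2) = true := by decide +kernel
theorem closed30 : chkClosed wData30 = true := by decide +kernel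
theorem mat30 : wData30.all (fun e => chkMat (matE e.1) e.2) = true := by decide +kernel

end CfsgLib.FFourGraph
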