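import Cfsg.Agent.FFourGraph.Check

/-! Kernel evaluation of the checks on the matrices of the Weyl group of type F4. -/

set_option autoImplicit false

namespace CfsgLib.FFourGraph

theorem closed3 : chkClosed wData3 = true := by decide +kernel
theorem mat3 : wData3.all (fun e => chkMat (matE e.1) e.2) = true := by decide +kernel
theorem closed7 : chkClosed wData7 = true := by decide +kernel
theorem mat7 : wData7.all (fun e => chkMat (matE e.1) e.2) = true := by decide +kernel
theorem closed11 : chkClosed wData11 = true := by decide +kernel
theorem mat11 : wData11.all (fun e => chkMat (matE e.1) e.2) = true := by decide +kernel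
theorem closed15 : chkClosed wData15 = true := by decide +kernel
theorem mat15 : wData15.all (fun e => chkMat (matE e.1) e.2) = true := by decide +kernel
theorem closed19 : chkClosed wData19 = true := by decide +kernel
theorem mat19 : wData19.all (fun e => chkMat (matE e.1) e.2) = true := by decide +kernel
theorem closed23 : chkClosed wData23 = true := by decide +kernel
theorem mat23 : wData23.all (fun e => chkMat (matE e.1) e.2) = true := by decide +kernel
theorem closed27 : chkClosed wData27 = true := by decide +kernel
theorem mat27 : wData27.all (fun e => chkMat (matE e.1) e.2) = true := by decide +kernel
theorem closed31 : chkClosed wData31 = true := by decide +kernel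
theorem mat31 : wData31.all (fun e => chkMat (matE e.1) e.2) = true := by decide +kernel

end CfsgLib.FFourGraph
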