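import Cfsg.Agent.FFourGraph.EvalA
import Cfsg.Agent.FFourGraph.EvalB
import Cfsg.Agent.FFourGraph.EvalC
import Cfsg.Agent.FFourGraph.EvalD

/-! Kernel evaluation of the checks on the matrices of the Weyl group of type F4. -/

set_option autoImplicit false

namespace CfsgLib.FFourGraph

theorem tab_ok : chkTab = true := by decide +kernel
theorem id_ok : ((entryAt 0).map fun e => matE e.1) = some idL := by decide +kernel

theorem closed_all : ∀ ch ∈ wData, chkClosed ch = true := by
  simp only [wData, List.forall_mem_cons, List.not_mem_nil, IsEmpty.forall_iff, implies_true, and_true]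
  exact ⟨closed0, closed1, closed2, closed3, closed4, closed5, closed6, closed7, closed8, closed9, closed10, closed11, closed12, closed13, closed14, closed15, closed16, closed17, closed18, closed19, closed20, closed21, closed22, closed23, closed24, closed25, closed26, closed27, closed28, closed29, closed30, closed31, closed32, closed33⟩

theorem mat_all : ∀ ch ∈ wData, ch.all (fun e => chkMat (matE e.1) e.2) = true := by
  simp only [wData, List.forall_mem_cons, List.not_mem_nil, IsEmpty.forall_iff, implies_true, and_true]
  exact ⟨mat0, mat1, mat2, mat3, mat4, mat5, mat6, mat7, mat8, mat9, mat10, mat11, mat12, mat13, mat14, mat15, mat16, mat17, mat18, mat19, mat20, mat21, mat22, mat23, mat24, mat25, mat26, mat27, mat28, mat29, mat30, mat31, mat32, mat33⟩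

end CfsgLib.FFourGraph
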