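import Mathlib.GroupTheory.Sylow
import Mathlib.GroupTheory.OrderOfElement
import Mathlib.Data.Int.GCD

/-!
# Conjugating small abelian subgroups into a subgroup of full local order
-/

set_option autoImplicit false

namespace CfsgLib.FFourGraph

open scoped Pointwise

variable {H : Type*} [Group H] [Finite H]

/-- An element of prime order is conjugate into a subgroup containing a Sylow subgroup. -/
theorem exists_conj_mem (A : Subgroup H) (r : ℕ) [Fact r.Prime]
    (hv : (Nat.card A).factorization r = (Nat.card H).factorization r) {y : H}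
    (hy : orderOf y = r) : ∃ g : H, g * y * g⁻¹ ∈ A := by
  let P₀ : Sylow r A := default
  have hcard : Nat.card ((P₀ : Subgroup A).map A.subtype) =
      r ^ (Nat.card H).factorization r := by
    rw [Subgroup.card_map_of_injective A.subtype_injective, P₀.card_eq_multiplicity, hv]
  let P : Sylow r H := Sylow.ofCard _ hcard
  have hp : IsPGroup r (Subgroup.zpowers y) :=
    IsPGroup.of_card (n := 1) (by rw [Nat.card_zpowers, hy, pow_one])
  obtain ⟨Q, hQ⟩ := hp.exists_le_sylow
  obtain ⟨g, hg⟩ := MulAction.exists_smul_eq H Q P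
  refine ⟨g, ?_⟩
  have h1 : g * y * g⁻¹ ∈ (P : Subgroup H) := by
    rw [← hg, Sylow.coe_subgroup_smul, Subgroup.mem_pointwise_smul_iff_inv_smul_mem]
    have : (MulAut.conj g)⁻¹ • (g * y * g⁻¹) = y := by
      simp [MulAut.smul_def, mul_assoc]
    rw [this]
    exact hQ (Subgroup.mem_zpowers y)
  exact Subgroup.map_subtype_le _ h1

omit [Finite H] in
/-- An element killed by a product of coprime numbers is generated by the two powers. -/
theorem mem_of_pow_mem {x : H} {r s : ℕ} (hco : r.Coprime s) {A : Subgroup H}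
    (hr : x ^ r ∈ A) (hs : x ^ s ∈ A) : x ∈ A := by
  have h1 := Nat.gcd_eq_gcd_ab r s
  rw [hco.gcd_eq_one, Nat.cast_one] at h1
  have h2 : x = (x ^ r) ^ r.gcdA s * (x ^ s) ^ r.gcdB s := by
    rw [← zpow_natCast x r, ← zpow_natCast x s, ← zpow_mul, ← zpow_mul, ← zpow_add, ← h1, zpow_one]
  rw [h2]
  exact mul_mem (zpow_mem hr _) (zpow_mem hs _)

/-- An element of order `r * s` is conjugate into an abelian subgroup of full local order at both
primes. -/
theorem exists_conj_pair (A : Subgroup H) (hcomm : ∀ a ∈ A, ∀ b ∈ A, a * b = b * a)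
    (r s : ℕ) [hr : Fact r.Prime] [hs : Fact s.Prime] (hrs : r ≠ s)
    (hvr : (Nat.card A).factorization r = (Nat.card H).factorization r)
    (hvs : (Nat.card A).factorization s = (Nat.card H).factorization s) {x : H}
    (hx : orderOf x = r * s) : ∃ g : H, g * x * g⁻¹ ∈ A := by
  have hro : orderOf (x ^ r) = s := by
    rw [orderOf_pow' x hr.out.ne_zero, hx, Nat.gcd_eq_right (dvd_mul_right r s),
      Nat.mul_div_cancel_left s hr.out.pos]
  obtain ⟨g, hg⟩ := exists_conj_mem A s hvs hro
  set x' := g * x * g⁻¹ with hx'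
  have hz : x' ^ r ∈ A := by rwa [hx', conj_pow]
  set C := Subgroup.centralizer ({x' ^ r} : Set H) with hC
  have hAC : A ≤ C := fun a ha => by
    rw [hC, Subgroup.mem_centralizer_iff]
    rintro _ rfl
    exact hcomm _ hz _ ha
  have hyC : x' ^ s ∈ C := by
    rw [hC, Subgroup.mem_centralizer_iff]
    rintro _ rfl
    rw [← pow_add, ← pow_add, add_comm]
  have hox : orderOf x' = r * s := by
    rw [hx', show g * x * g⁻¹ = MulAut.conj g x from rfl, MulEquiv.orderOf_eq, hx]
  have hso : orderOf (⟨x' ^ s, hyC⟩ : C) = r := by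
    rw [Subgroup.orderOf_mk, orderOf_pow' x' hs.out.ne_zero, hox,
      Nat.gcd_eq_right (dvd_mul_left s r), Nat.mul_div_cancel _ hs.out.pos]
  have hvC : (Nat.card (A.subgroupOf C)).factorization r = (Nat.card C).factorization r := by
    rw [Nat.card_congr (Subgroup.subgroupOfEquivOfLe hAC).toEquiv]
    refine le_antisymm ?_ ?_
    · exact (Nat.factorization_le_iff_dvd Nat.card_pos.ne' Nat.card_pos.ne').2
        (Subgroup.card_dvd_of_le hAC) r
    · rw [hvr]
      exact (Nat.factorization_le_iff_dvd Nat.card_pos.ne' Nat.card_pos.ne').2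
        (Subgroup.card_subgroup_dvd_card C) r
  obtain ⟨⟨k, hk⟩, hk'⟩ := exists_conj_mem (A.subgroupOf C) r hvC hso
  rw [Subgroup.mem_subgroupOf] at hk'
  change k * x' ^ s * k⁻¹ ∈ A at hk'
  have hkz : k * x' ^ r * k⁻¹ = x' ^ r := by
    rw [hC, Subgroup.mem_centralizer_iff] at hk
    rw [← hk (x' ^ r) rfl, mul_inv_cancel_right]
  refine ⟨k * g, mem_of_pow_mem ((Nat.coprime_primes hr.out hs.out).2 hrs) ?_ ?_⟩ <;>
    rw [show k * g * x * (k * g)⁻¹ = k * x' * k⁻¹ by rw [hx']; group, conj_pow]
  · rw [hkz]; exact hz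
  · exact hk'

end CfsgLib.FFourGraph
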