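import Cfsg.Agent.SylowTori.Descend
import Cfsg.Agent.LangTorus.TorConj
import Cfsg.Agent.LangTorus.KerCount
import Cfsg.Agent.LangChev.Basic

/-!
# Frobenius-twisted torus elements, for a general datum
-/

set_option autoImplicit false

namespace CfsgLib.FFourGraph

open Cfsg.Lie CfsgLib.Chevalley CfsgLib.ChevTorus CfsgLib.TorusWeyl CfsgLib.LangTorus
  CfsgLib.LangChev CfsgLib.SylowTori
open scoped Matrix MatrixGroups

variable {D : ChevalleyDatum} {C : Weyl.Cert D.rank} {M : CoxeterMatrix (Fin D.rank)}
  {R : Weyl.RootTable}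
variable {K : Type*} [Field K] (p f : ℕ) [ExpChar K p] {F : Type*} [Field F] [Fintype F]
  [Algebra F K]

/-- A fixed point conjugate into the torus gives a twisted fixed tuple. -/
theorem exists_twist (hW : GoodWeyl D) (h : Weyl.RootGood C M R)
    (hinj : Function.Injective (torC D : (Fin D.rank → Kˣ) → GL D.Idx K))
    (hq : Fintype.card F = p ^ f) {y g : GL D.Idx K} (hy : frobGL K p f y = y)
    (hg : g ∈ D.group K) {c : Fin D.rank → Kˣ} (hc : g * y * g⁻¹ = torC D c) :
    ∃ w : M.Group, monAct (wMat h w) (c ^ Fintype.card F) = c := by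
  have h1 := congrArg (frobGL K p f) hc
  rw [map_mul, map_mul, map_inv, hy, frobGL_torC p f hq] at h1
  refine exists_weyl_of_conj hW h hinj (g := g * (frobGL K p f g)⁻¹)
    (mul_mem hg (inv_mem (map_mem_group hW.good _ hg))) ?_
  rw [← h1, ← hc]
  group

/-- A twisted fixed tuple gives a fixed point, given an element with the twisting image. -/
theorem frob_conj_eq (hW : GoodWeyl D) (h : Weyl.RootGood C M R) (hq : Fintype.card F = p ^ f)
    {g n : GL D.Idx K} (hσg : frobGL K p f g = g * n) (hn : n ∈ D.monomialSubgroup K)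
    {c : Fin D.rank → Kˣ}
    (hfix : monAct (wMat h (weylHom hW h ⟨n, hn⟩)) (c ^ Fintype.card F) = c) :
    frobGL K p f (g * torC D c * g⁻¹) = g * torC D c * g⁻¹ := by
  have h1 := mon_conj_torC hW h ⟨n, hn⟩ (c ^ Fintype.card F)
  rw [hfix] at h1
  rw [map_mul, map_mul, map_inv, hσg, frobGL_torC p f hq]
  change n * torC D (c ^ Fintype.card F) * n⁻¹ = torC D c at h1
  rw [← h1]
  group

/-- The image in the group over an extension of the field. -/
theorem exists_lift {E : Type*} [Field E] (φ : E →+* K) (hW : GoodWeyl D) {y : GL D.Idx E}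
    (hy : y ∈ D.diagonalSubgroup E) :
    ∃ c : Fin D.rank → Kˣ, Matrix.GeneralLinearGroup.map φ y = torC D c := by
  rw [diagonalSubgroup_eq_range hW] at hy
  obtain ⟨c, rfl⟩ := hy
  exact ⟨_, map_torC φ c⟩

/-- A twisted fixed tuple gives an element of the finite group. -/
theorem exists_fixed_torC (hW : GoodWeyl D) (h : Weyl.RootGood C M R)
    (hinj : Function.Injective (torC D : (Fin D.rank → Kˣ) → GL D.Idx K))
    (hq : Fintype.card F = p ^ f) (ω : List (Fin D.rank)) {g : GL D.Idx K} (hg : g ∈ D.group K)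
    (hσg : frobGL K p f g = g * nWord hW K ω) {c : Fin D.rank → Kˣ}
    (hfix : monAct (wMat h (M.toCoxeterSystem.wordProd ω)) (c ^ Fintype.card F) = c) :
    ∃ y ∈ D.group F, Matrix.GeneralLinearGroup.map (algebraMap F K) y =
      g * torC D c * g⁻¹ :=
  exists_descend p f hW h hinj hq
    (mul_mem (mul_mem hg (diag_le_group hW (torC_mem_diag hW c))) (inv_mem hg))
    (frob_conj_eq p f hW h hq hσg (nWord_mem hW K ω) (by rw [weylHom_nWord]; exact hfix))

omit [ExpChar K p] in
/-- In characteristic two the representatives permute the elements `x_r(1)`. -/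
theorem nWord_mul_X_one (hW : GoodWeyl D) (h2 : (2 : K) = 0) :
    ∀ (ω : List (Fin D.rank)) (r : Root D),
      nWord hW K ω * X hW.good r (1 : K) =
        X hW.good ((ω.map (wPerm hW)).prod r) 1 * nWord hW K ω
  | [], r => by simp [nWord]
  | i :: ω, r => by
    have hη : ∀ s, (eta D i s : K) = 1 := fun s => by
      have e := congrArg (fun z : ℤ => (z : K)) (hW.eta_sq i s)
      simp only [Int.cast_mul, Int.cast_one] at e
      rcases mul_self_eq_one_iff.1 e with e' | e'
      · exact e'
      · rw [e']; linear_combination -h2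
    rw [nWord_cons, mul_assoc, nWord_mul_X_one hW h2 ω r, ← mul_assoc, nR_mul_X hW, hη, one_mul,
      mul_assoc, List.map_cons, List.prod_cons, Equiv.Perm.mul_apply]

/-- A fixed root gives a root element of the finite group. -/
theorem exists_fixed_X (hW : GoodWeyl D) (h : Weyl.RootGood C M R)
    (hinj : Function.Injective (torC D : (Fin D.rank → Kˣ) → GL D.Idx K))
    (hq : Fintype.card F = p ^ f) (h2 : (2 : K) = 0) (ω : List (Fin D.rank)) {r : Root D}
    (hr : (ω.map (wPerm hW)).prod r = r) {g : GL D.Idx K} (hg : g ∈ D.group K)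
    (hσg : frobGL K p f g = g * nWord hW K ω) :
    ∃ y ∈ D.group F, Matrix.GeneralLinearGroup.map (algebraMap F K) y =
      g * X hW.good r (1 : K) * g⁻¹ := by
  refine exists_descend p f hW h hinj hq
    (mul_mem (mul_mem hg (X_mem_group _ _ _)) (inv_mem hg)) ?_
  have h1 := nWord_mul_X_one hW h2 ω r
  rw [hr] at h1
  have h3 : frobGL K p f (X hW.good r (1 : K)) = X hW.good r 1 := by
    show Matrix.GeneralLinearGroup.map _ _ = _
    rw [X_map, map_one]
  rw [map_mul, map_mul, map_inv, hσg, h3, mul_inv_rev, mul_assoc g (nWord hW K ω), h1]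
  group

end CfsgLib.FFourGraph
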