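import Cfsg.Agent.FFourGraph.Torus
import Cfsg.Agent.FFourGraph.Sylow
import Cfsg.Agent.FFourGraph.Twist
import Cfsg.Agent.SylowTori.Main
import Cfsg.Agent.FFourGraph.Card
import Cfsg.Agent.Weyl.Degrees

/-!
# Elements of order a product of two primes and the tori of type F4
-/

set_option autoImplicit false
set_option linter.style.haveILetI false

namespace CfsgLib.FFourGraph

open Cfsg.Lie CfsgLib.Chevalley CfsgLib.ChevTorus CfsgLib.CoxTori CfsgLib.TorusWeyl
  CfsgLib.LangTorus CfsgLib.LangChev CfsgLib.SylowTori CfsgLib.FGS.SylowGL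
open scoped Matrix MatrixGroups

theorem det_cartan : (cartanMat chevF4).det.natAbs = 1 := by
  refine (natAbs_det_of_smith smithF4).trans ?_
  decide +kernel

theorem det_cartan_ne : (cartanMat chevF4).det ≠ 0 := fun h => by
  have := det_cartan
  rw [h] at this
  simp at this

theorem hinjF4 {K : Type*} [Field K] :
    Function.Injective (torC chevF4 : (Fin 4 → Kˣ) → GL chevF4.Idx K) :=
  torC_injective (K := K) goodWF4 certF4_good

theorem orderOf_torC {K : Type*} [Field K] (c : Fin 4 → Kˣ) :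
    orderOf (torC chevF4 c) = orderOf c :=
  orderOf_injective (torHom chevF4 K) hinjF4 c

/-- For a field with `Q ≡ 1` modulo a prime at least five the torus has full local order. -/
theorem vals {E : Type*} [Field E] [Fintype E] {s : ℕ} [hs : Fact s.Prime] (hs5 : 5 ≤ s)
    (hQ : orderOf (Fintype.card E : ZMod s) = 1) (hsQ : ¬ s ∣ Fintype.card E) :
    (Nat.card ((chevF4.diagonalSubgroup E).subgroupOf (chevF4.group E))).factorization s =
      (Nat.card (chevF4.group E)).factorization s := by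
  set Q := Fintype.card E with hQdef
  have hQ2 : 2 ≤ Q := Fintype.one_lt_card
  have hnd : ∀ e ∈ [2, 6, 8, 12], ¬ s ∣ e := by
    intro e he hd
    have h24 : ∀ e ∈ [2, 6, 8, 12], e ∣ 24 := by decide
    have h1 : s ∣ 24 := hd.trans (h24 e he)
    have := Nat.le_of_dvd (by norm_num) h1
    have hsp := hs.out
    interval_cases s <;> norm_num at *
  have hG := factorization_natCard_group (D := chevF4) goodWF4 Weyl.rootF4_good smithF4
    [2, 6, 8, 12] (by decide +kernel) (fun x i => @Weyl.poincareF4 ℕ _ i x) (F := E) (r := s) hsQ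
    hnd (by
      intro hd
      exact hs.out.not_dvd_one (det_cartan ▸ (natAbs_det_of_smith smithF4).symm ▸ hd))
  rw [Nat.card_congr (Subgroup.subgroupOfEquivOfLe (diag_le_group goodWF4)).toEquiv, hG, ← hQdef,
    hQ]
  have hT := natCard_diag (F := E) hQdef.symm
  rw [one_mul] at hT
  rw [hT, Nat.factorization_pow, ← factorization_top hQ2 hsQ, hQ, pow_one, Finsupp.smul_apply,
    smul_eq_mul]
  rfl

variable {F : Type*} [Field F] [Fintype F] {n : ℕ}

theorem mem_diag_of_weylHom {D : ChevalleyDatum} {C : Weyl.Cert D.rank}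
    {M : CoxeterMatrix (Fin D.rank)} {R : Weyl.RootTable} (hW : GoodWeyl D)
    (h : Weyl.RootGood C M R) {K : Type*} [Field K] {y : GL D.Idx K}
    (hm : y ∈ D.monomialSubgroup K) (hw : weylHom hW h ⟨y, hm⟩ = 1) :
    y ∈ D.diagonalSubgroup K := by
  have h2 : (⟨y, hm⟩ : ↥(D.monomialSubgroup K)) ∈ (weylHom hW h).ker := hw
  rw [ker_weylHom] at h2
  exact h2

/-- An element centralising a regular element of the torus lies in the torus. -/
theorem mem_diag_of_commute {K : Type*} [Field K] {c : Fin 4 → Kˣ} {s : ℕ} (hs : s.Prime)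
    (hs5 : 5 ≤ s) (hc : orderOf c = s) (hreg : ∀ r < 48, pv (wv r) c ≠ 1) {y : GL chevF4.Idx K}
    (hy : y ∈ chevF4.group K) (he : torC chevF4 c * y = y * torC chevF4 c) :
    y ∈ chevF4.diagonalSubgroup K := by
  obtain ⟨w, hm, hw, -⟩ := LangTorus.exists_weyl_of_commute goodWF4 Weyl.rootF4_good
    (c := c) (fun r => hreg r r.2) hy he
  have h1 := mon_conj_torC goodWF4 Weyl.rootF4_good ⟨y, hm⟩ c
  rw [← he, mul_inv_cancel_right, hw] at h1
  have hw1 := eq_one_of_regular hs hs5 hc hreg (hinjF4 h1.symm)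
  exact mem_diag_of_weylHom goodWF4 Weyl.rootF4_good hm (hw.trans hw1)

/-- The primes cannot both divide one of the determinants. -/
theorem not_both {r s : ℕ} [Fact r.Prime] [Fact s.Prime] (hr2 : r ≠ 2) (hs2 : s ≠ 2) {q : ℕ}
    (hrq : ¬ r ∣ q) (hsq : ¬ s ∣ q) {k l : ℕ} (hk : orderOf (q : ZMod r) = k)
    (hl : orderOf (q : ZMod s) = l) (hkl : k < l)
    (hcase : l = 8 ∨ l = 12 ∨ l = 6 ∧ (k = 3 ∨ k = 4) ∨ l = 4 ∧ k = 3)
    (w : CoxeterMatrix.F₄.Group) (hdr : r ∣ ((q : ℤ) • W4 w - 1).det.natAbs)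
    (hds : s ∣ ((q : ℤ) • W4 w - 1).det.natAbs) : False := by
  obtain ⟨ds, hd, h34, h36, h46, h8, h12, hdet, -⟩ := det_eq w
  rw [hdet, ← Int.natCast_dvd] at hdr hds
  have hl3 : l ∈ ds := by
    rcases order_of_dvd_prod hs2 hsq hd hds with h | ⟨h, -⟩
    · exact hl ▸ h
    · rw [hl] at h
      have := Nat.le_of_dvd (by norm_num) h
      omega
  rcases order_of_dvd_prod hr2 hrq hd hdr with h | ⟨h, d, hdd, hd'⟩
  · rw [hk] at h
    rcases hcase with rfl | rfl | ⟨rfl, rfl | rfl⟩ | ⟨rfl, rfl⟩
    · rw [h8 hl3] at h; simp at h; omega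
    · rw [h12 hl3] at h; simp at h; omega
    · exact h36 ⟨h, hl3⟩
    · exact h46 ⟨h, hl3⟩
    · exact h34 ⟨h, hl3⟩
  · rw [hk] at h
    rcases hcase with rfl | rfl | ⟨rfl, rfl | rfl⟩ | ⟨rfl, rfl⟩
    · rw [h8 hl3] at hdd; simp at hdd; subst hdd; simp at hd'
    · rw [h12 hl3] at hdd; simp at hdd; subst hdd; simp at hd'
    all_goals exact absurd (Nat.le_of_dvd (by norm_num) h) (by norm_num)

set_option maxHeartbeats 1600000 in
/-- The criterion: no element of order `r * s`. -/
theorem not_exists (hF : Fintype.card F = 2 ^ n) (r s : ℕ) [hr : Fact r.Prime] [hs : Fact s.Prime]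
    (hrs : r ≠ s) (hs2 : s ≠ 2) (hsq : ¬ s ∣ Fintype.card F)
    (hle : orderOf (Fintype.card F : ZMod s) ∈ [4, 6, 8, 12])
    (hrle : r ≠ 2 → ¬ r ∣ Fintype.card F ∧ orderOf (Fintype.card F : ZMod r) ∣ 24)
    (hcase : (r = 2 ∧ orderOf (Fintype.card F : ZMod s) ∈ [8, 12]) ∨
      (r ≠ 2 ∧ orderOf (Fintype.card F : ZMod r) < orderOf (Fintype.card F : ZMod s) ∧
        (orderOf (Fintype.card F : ZMod s) = 8 ∨ orderOf (Fintype.card F : ZMod s) = 12 ∨
          orderOf (Fintype.card F : ZMod s) = 6 ∧ (orderOf (Fintype.card F : ZMod r) = 3 ∨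
            orderOf (Fintype.card F : ZMod r) = 4) ∨
          orderOf (Fintype.card F : ZMod s) = 4 ∧ orderOf (Fintype.card F : ZMod r) = 3)))
    (x : ↥(chevF4.group F)) (hx : orderOf x = r * s) : False := by
  classical
  set q := Fintype.card F with hq
  set l := orderOf (q : ZMod s) with hl
  have hl4 : 4 ≤ l := by revert hle; generalize l = m; intro h; fin_cases h <;> norm_num
  have hs5 : 5 ≤ s := by
    have h0 : (q : ZMod s) ≠ 0 := fun h => hsq ((ZMod.natCast_eq_zero_iff _ _).1 h)
    have := ZMod.orderOf_dvd_card_sub_one h0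
    have := Nat.le_of_dvd (by have := hs.out.two_le; omega) this
    omega
  haveI : Fact (Nat.Prime 2) := ⟨Nat.prime_two⟩
  haveI : CharP F 2 := charP_of_card_eq_prime_pow hF
  obtain ⟨f, -, hqf⟩ := FiniteField.card F 2
  let E := FiniteField.Extension F 2 24
  letI : Fintype E := Fintype.ofFinite E
  have hEcard : Fintype.card E = q ^ 24 := by
    rw [← Nat.card_eq_fintype_card, FiniteField.natCard_extension, Nat.card_eq_fintype_card]
  let K := AlgebraicClosure E
  letI : Algebra F K := ((algebraMap E K).comp (algebraMap F E)).toAlgebra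
  haveI : CharP K 2 := charP_of_injective_algebraMap (algebraMap F K).injective 2
  haveI : ExpChar K 2 := ExpChar.prime Nat.prime_two
  set σ := frobGL (ι := chevF4.Idx) K 2 (f : ℕ)
  set ιE := Matrix.GeneralLinearGroup.map (n := chevF4.Idx) (algebraMap F E)
  set ιEK := Matrix.GeneralLinearGroup.map (n := chevF4.Idx) (algebraMap E K)
  set ι := Matrix.GeneralLinearGroup.map (n := chevF4.Idx) (algebraMap F K)
  let jE : ↥(chevF4.group F) →* ↥(chevF4.group E) :=
    (ιE.comp (chevF4.group F).subtype).codRestrict _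
      fun y => map_mem_group goodWF4.good _ y.2
  have hιEinj : Function.Injective ιE := fun a b e => Units.ext
    (Matrix.map_injective (f := algebraMap F E) (algebraMap F E).injective (congrArg Units.val e))
  have hjE : Function.Injective jE := fun a b e => Subtype.ext (hιEinj (congrArg Subtype.val e))
  set A := (chevF4.diagonalSubgroup E).subgroupOf (chevF4.group E)
  have hval : ∀ t : ℕ, ∀ _ : Fact t.Prime, 5 ≤ t → ¬ t ∣ q → orderOf (q : ZMod t) ∣ 24 →
      (Nat.card A).factorization t = (Nat.card (chevF4.group E)).factorization t := by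
    intro t ht ht5 htq hte
    refine vals ht5 ?_ ?_
    · rw [hEcard, orderOf_eq_one_iff, Nat.cast_pow]
      exact orderOf_dvd_iff_pow_eq_one.1 hte
    · rw [hEcard]
      exact fun h => htq (ht.out.dvd_of_dvd_pow h)
  have hl24 : l ∣ 24 := by revert hle; generalize l = m; intro h; fin_cases h <;> norm_num
  have hvs := hval s hs hs5 hsq hl24
  have hxE : orderOf (jE x) = r * s := by rw [orderOf_injective jE hjE, hx]
  -- transfer to the algebraic closure
  let Φ : ↥(chevF4.group F) →* GL chevF4.Idx K := ι.comp (chevF4.group F).subtype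
  have hιinj : Function.Injective ι := fun a b e => Units.ext
    (Matrix.map_injective (f := algebraMap F K) (algebraMap F K).injective (congrArg Units.val e))
  have hΦ : Function.Injective Φ := fun a b e => Subtype.ext (hιinj e)
  have hσΦ : ∀ y, σ (Φ y) = Φ y := fun y => by
    refine Units.ext (Matrix.ext fun i j => ?_)
    show algebraMap F K _ ^ 2 ^ (f : ℕ) = _
    rw [← map_pow, ← hqf, FiniteField.pow_card]
    rfl
  have hΦE : ∀ y, ιEK (jE y : GL chevF4.Idx E) = Φ y := fun y =>
    Units.ext (Matrix.ext fun i j => rfl)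
  have lift : ∀ (y : ↥(chevF4.group F)) (g : ↥(chevF4.group E)),
      g * jE y * g⁻¹ ∈ A → ∃ c : Fin 4 → Kˣ,
        ιEK (g : GL chevF4.Idx E) * Φ y * (ιEK (g : GL chevF4.Idx E))⁻¹ = torC chevF4 c := by
    intro y g hy
    rw [Subgroup.mem_subgroupOf] at hy
    have hy' : (g : GL chevF4.Idx E) * (jE y : GL chevF4.Idx E) * (g : GL chevF4.Idx E)⁻¹ ∈
        chevF4.diagonalSubgroup E := hy
    obtain ⟨c, hc⟩ := exists_lift (D := chevF4) (algebraMap E K) goodWF4 hy'
    refine ⟨c, ?_⟩
    rw [← hc, map_mul, map_mul, map_inv, hΦE]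
  have twisted : ∀ (y : ↥(chevF4.group F)) (g : GL chevF4.Idx K), g ∈ chevF4.group K →
      ∀ c : Fin 4 → Kˣ, g * Φ y * g⁻¹ = torC chevF4 c →
        ∃ w, monAct (W4 w) (c ^ q) = c ∧ orderOf c = orderOf y := by
    intro y g hg c hc
    obtain ⟨w, hw⟩ := exists_twist (D := chevF4) 2 (f : ℕ) goodWF4 Weyl.rootF4_good hinjF4 hqf
      (hσΦ y) hg hc
    refine ⟨w, hw, ?_⟩
    rw [← orderOf_torC, ← hc, show g * Φ y * g⁻¹ = MulAut.conj g (Φ y) from rfl,
      MulEquiv.orderOf_eq, orderOf_injective Φ hΦ]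
  have finish : ∀ (g : GL chevF4.Idx K), g ∈ chevF4.group K → ∀ c : Fin 4 → Kˣ,
      g * Φ x * g⁻¹ = torC chevF4 c → r ≠ 2 → False := by
    intro g hg c hc hr2
    obtain ⟨w, hw, ho⟩ := twisted x g hg c hc
    have h1 := orderOf_dvd_det hw
    rw [ho, hx] at h1
    rcases hcase with ⟨h, -⟩ | ⟨-, hkl, hlist⟩
    · exact hr2 h
    · exact not_both hr2 hs2 (hrle hr2).1 hsq rfl rfl hkl hlist w
        ((dvd_mul_right r s).trans h1) ((dvd_mul_left s r).trans h1)
  by_cases hbig : l = 8 ∨ l = 12
  · -- the element of order `s` is regular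
    have hxs : orderOf (x ^ r) = s := by
      rw [orderOf_pow' x hr.out.ne_zero, hx, Nat.gcd_eq_right (dvd_mul_right r s),
        Nat.mul_div_cancel_left s hr.out.pos]
    obtain ⟨g₀, hg₀⟩ := exists_conj_mem A s hvs (y := jE (x ^ r))
      (by rw [orderOf_injective jE hjE, hxs])
    obtain ⟨c, hc⟩ := lift (x ^ r) g₀ hg₀
    set g := ιEK (g₀ : GL chevF4.Idx E)
    have hg : g ∈ chevF4.group K := map_mem_group goodWF4.good _ g₀.2
    obtain ⟨w, hw, ho⟩ := twisted (x ^ r) g hg c hc
    rw [hxs] at ho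
    obtain ⟨ds, hd, -, -, -, h8, h12, hdet, hspan⟩ := det_eq w
    have hl3 : l ∈ ds := by
      have h1 := orderOf_dvd_det hw
      rw [ho, hdet, ← Int.natCast_dvd] at h1
      rcases order_of_dvd_prod hs2 hsq hd h1 with h | ⟨h, -⟩
      · exact h
      · have := Nat.le_of_dvd (by norm_num) h
        omega
    have hreg := regular_of_fix hw hs.out hs5 ho hsq
      (hspan (by rcases hbig with e | e <;> rw [e] at hl3 <;> tauto))
    set y := g * Φ (x ^ s) * g⁻¹
    have hyG : y ∈ chevF4.group K :=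
      mul_mem (mul_mem hg (map_mem_group goodWF4.good _ (x ^ s).2)) (inv_mem hg)
    have hye : torC chevF4 c * y = y * torC chevF4 c := by
      rw [← hc]
      calc g * Φ (x ^ r) * g⁻¹ * y = g * Φ (x ^ r * x ^ s) * g⁻¹ := by
            simp only [y, map_mul]; group
        _ = g * Φ (x ^ s * x ^ r) * g⁻¹ := by rw [← pow_add, ← pow_add, add_comm]
        _ = y * (g * Φ (x ^ r) * g⁻¹) := by simp only [y, map_mul]; group
    have hyd := mem_diag_of_commute hs.out hs5 ho hreg hyG hye
    by_cases hr2 : r = 2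
    · subst hr2
      rw [diagonalSubgroup_eq_range goodWF4] at hyd
      obtain ⟨d, hd'⟩ := hyd
      change torC chevF4 d = y at hd'
      have hos : orderOf d = 2 := by
        refine (orderOf_torC d).symm.trans ?_
        rw [hd', show y = MulAut.conj g (Φ (x ^ s)) from rfl, MulEquiv.orderOf_eq,
          orderOf_injective Φ hΦ, orderOf_pow' x hs.out.ne_zero, hx,
          Nat.gcd_eq_right (dvd_mul_left s 2), Nat.mul_div_cancel _ hs.out.pos]
      have hd2 : d ^ 2 = 1 := by
        have := pow_orderOf_eq_one d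
        rwa [hos] at this
      have hd1 : d = 1 := funext fun i => Units.ext (by
        have h1 : d i ^ 2 = 1 := congrFun hd2 i
        have h2 : ((d i : K) - 1) ^ 2 = 0 := by
          rw [sub_pow_char, one_pow, ← Units.val_pow_eq_pow_val, h1, Units.val_one, sub_self]
        rw [Pi.one_apply, Units.val_one]
        exact sub_eq_zero.1 (pow_eq_zero_iff two_ne_zero |>.1 h2))
      rw [hd1, orderOf_one] at hos
      exact absurd hos (by norm_num)
    · have hxd : g * Φ x * g⁻¹ ∈ chevF4.diagonalSubgroup K := by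
        refine mem_of_pow_mem ((Nat.coprime_primes hr.out hs.out).2 hrs) ?_ ?_
        · rw [conj_pow, ← map_pow, hc]; exact torC_mem_diag goodWF4 c
        · rw [conj_pow, ← map_pow]; exact hyd
      rw [diagonalSubgroup_eq_range goodWF4] at hxd
      obtain ⟨d, hd'⟩ := hxd
      exact finish g hg d hd'.symm hr2
  · -- both primes are at least five
    rcases hcase with ⟨-, h⟩ | ⟨hr2, -, hlist⟩
    · simp at h; exact hbig h
    · have hr5 : 5 ≤ r := by
        have h0 : (q : ZMod r) ≠ 0 := fun h => (hrle hr2).1 ((ZMod.natCast_eq_zero_iff _ _).1 h)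
        have h1 := Nat.le_of_dvd (by have := hr.out.two_le; omega)
          (ZMod.orderOf_dvd_card_sub_one h0)
        have hne : r ≠ 4 := fun h => by
          have := hr.out; rw [h] at this; norm_num at this
        omega
      obtain ⟨g₀, hg₀⟩ := exists_conj_pair A (fun a ha b hb => Subtype.ext
          (diag_comm goodWF4 (Subgroup.mem_subgroupOf.1 ha) (Subgroup.mem_subgroupOf.1 hb)))
        r s hrs (hval r hr hr5 (hrle hr2).1 (hrle hr2).2) hvs hxE
      obtain ⟨c, hc⟩ := lift x g₀ hg₀
      exact finish _ (map_mem_group goodWF4.good _ g₀.2) c hc hr2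

end CfsgLib.FFourGraph
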