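import Cfsg.Agent.FFourGraph.Check

/-! Kernel evaluation of the checks on the matrices of the Weyl group of type F4. -/

set_option autoImplicit false

namespace CfsgLib.FFourGraph

theorem closed0 : chkClosed wData0 = true := by decide +kernel
theorem mat0 : wData0.all (fun e => chkMat (matE e.1) e.2) = true := by decide +kernel
theorem closed4 : chkClosed wData4 = true := by decide +kernel
theorem mat4 : wData4.all (fun e => chkMat (matE e.1) e.2) = true := by decide +kernel
theorem closed8 : chkClosed wData8 = true := by decide +kernel
theorem mat8 : wData8.all (fun e => chkMat (matE e.1) e.2) = true := by decide +kernel
theorem closed12 : chkClosed wData12 = true := by decide +kernel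
theorem mat12 : wData12.all (fun e => chkMat (matE e.1) e.2) = true := by decide +kernel
theorem closed16 : chkClosed wData16 = true := by decide +kernel
theorem mat16 : wData16.all (fun e => chkMat (matE e.1) e.2) = true := by decide +kernel
theorem closed20 : chkClosed wData20 = true := by decide +kernel
theorem mat20 : wData20.all (fun e => chkMat (matE e.1) e.2) = true := by decide +kernel
theorem closed24 : chkClosed wData24 = true := by decide +kernel
theorem mat24 : wData24.all (fun e => chkMat (matE e.1) e.2) = true := by decide +kernel
theorem closed28 : chkClosed wData28 = true := by decide +kernel
theorem mat28 : wData28.all (fun e => chkMat (matE e.1) e.2) = true := by decide +kernel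
theorem closed32 : chkClosed wData32 = true := by decide +kernel
theorem mat32 : wData32.all (fun e => chkMat (matE e.1) e.2) = true := by decide +kernel

end CfsgLib.FFourGraph
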