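import Cfsg.Agent.FFourGraph.Conj

/-!
# Elements of order a product of two primes in tori of type F4
-/

set_option autoImplicit false
set_option linter.style.haveILetI false

namespace CfsgLib.FFourGraph

open Cfsg.Lie CfsgLib.Chevalley CfsgLib.ChevTorus CfsgLib.CoxTori CfsgLib.TorusWeyl
  CfsgLib.LangTorus CfsgLib.LangChev CfsgLib.SylowTori
open scoped Matrix MatrixGroups

/-- The check that the determinant of a word is a given product. -/
def chkWordDs (ω : List (Fin 4)) (ds : List ℕ) : Bool :=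
  peq (coeffs (ent (wordMat ω))) (cycProd ds) ||
    peq (coeffs (ent (wordMat ω))) (pneg (cycProd ds))

/-- The last root. -/
def rootZ : Root chevF4 := ⟨47, by decide +kernel⟩

variable {F : Type*} [Field F] [Fintype F] {n : ℕ}

theorem two_dvd_card (hn : 1 ≤ n) (hF : Fintype.card F = 2 ^ n) : 2 ∣ Fintype.card F :=
  hF ▸ dvd_pow_self 2 (by omega)

theorem dvd_det {ω : List (Fin 4)} {ds : List ℕ} (h : chkWordDs ω ds = true) {q r : ℕ}
    [Fact r.Prime] {d : ℕ} (hd : orderOf (q : ZMod r) = d) (hds : d ∈ ds)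
    (hd7 : d ∈ [1, 2, 3, 4, 6, 8, 12]) :
    r ∣ ((q : ℤ) • W4 (CoxeterMatrix.F₄.toCoxeterSystem.wordProd ω) - 1).det.natAbs := by
  have h1 := dvd_cycProd hds (dvd_cyc_order (q := q) hd7 hd)
  rw [← Int.natCast_dvd, det_word]
  simp only [chkWordDs, Bool.or_eq_true] at h
  rcases h with h | h <;> rw [pev_eq_of_peq h]
  · exact h1
  · rw [pev_pneg]; exact h1.neg_right

theorem det_odd (ω : List (Fin 4)) {q : ℕ} (hq : 2 ∣ q) :
    ¬ 2 ∣ ((q : ℤ) • W4 (CoxeterMatrix.F₄.toCoxeterSystem.wordProd ω) - 1).det.natAbs := by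
  rw [← Int.natCast_dvd, det_word, coeffs, pev_cons]
  intro h
  have h1 : ((2 : ℕ) : ℤ) ∣ (q : ℤ) := Int.natCast_dvd_natCast.2 hq
  have h2 := (dvd_add_left (h1.mul_right _)).1 h
  norm_num at h2

set_option maxHeartbeats 800000 in
/-- Two primes dividing one determinant give an element of order their product. -/
theorem exists_pair (hn : 1 ≤ n) (hF : Fintype.card F = 2 ^ n) (ω : List (Fin 4)) {ds : List ℕ}
    (hds : chkWordDs ω ds = true) (hd7 : ∀ d ∈ ds, d ∈ [1, 2, 3, 4, 6, 8, 12])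
    (r s : ℕ) [hr : Fact r.Prime] [hs : Fact s.Prime] (hrs : r ≠ s)
    (hr' : orderOf (Fintype.card F : ZMod r) ∈ ds) (hs' : orderOf (Fintype.card F : ZMod s) ∈ ds) :
    ∃ x : ↥(chevF4.group F), orderOf x = r * s := by
  classical
  set q := Fintype.card F
  haveI : Fact (Nat.Prime 2) := ⟨Nat.prime_two⟩
  haveI : CharP F 2 := charP_of_card_eq_prime_pow hF
  obtain ⟨f, -, hqf⟩ := FiniteField.card F 2
  let K := AlgebraicClosure F
  haveI : CharP K 2 := charP_of_injective_algebraMap (algebraMap F K).injective 2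
  haveI : ExpChar K 2 := ExpChar.prime Nat.prime_two
  set w := CoxeterMatrix.F₄.toCoxeterSystem.wordProd ω with hw
  set B := (q : ℤ) • W4 w - 1 with hB
  have hBK : ((B.det.natAbs : ℕ) : K) ≠ 0 := by
    rw [Ne, CharP.cast_eq_zero_iff K 2]
    exact det_odd ω (two_dvd_card hn hF)
  have hker := natCard_ker_monAct (K := K) hBK
  haveI : Finite (monAct (G := Kˣ) B).ker :=
    Nat.finite_of_card_ne_zero (hker ▸ fun h0 => hBK (by rw [h0, Nat.cast_zero]))
  obtain ⟨a, ha⟩ := exists_prime_orderOf_dvd_card' (G := (monAct (G := Kˣ) B).ker) r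
    (hker ▸ dvd_det hds rfl hr' (hd7 _ hr'))
  obtain ⟨b, hb⟩ := exists_prime_orderOf_dvd_card' (G := (monAct (G := Kˣ) B).ker) s
    (hker ▸ dvd_det hds rfl hs' (hd7 _ hs'))
  have hab : orderOf (a * b) = r * s := by
    rw [(Commute.all a b).orderOf_mul_eq_mul_orderOf_of_coprime
      (by rw [ha, hb]; exact (Nat.coprime_primes hr.out hs.out).2 hrs), ha, hb]
  set c : Fin 4 → Kˣ := ((a * b : (monAct (G := Kˣ) B).ker) : Fin 4 → Kˣ)
  have hc : orderOf c = r * s := by rw [Subgroup.orderOf_coe, hab]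
  have hfix : monAct (W4 w) (c ^ q) = c := (mem_ker_iff_fix _ _ _).1 (a * b).2
  obtain ⟨g, hg, hgn⟩ := lang (D := chevF4) goodWF4 Weyl.rootF4_good det_cartan_ne 2 (f : ℕ) f.pos
    (monomial_le_group goodWF4 (nWord_mem goodWF4 K ω))
  obtain ⟨y, hy, hye⟩ := exists_fixed_torC (D := chevF4) 2 (f : ℕ) goodWF4 Weyl.rootF4_good
    hinjF4 hqf ω hg (by rw [← hgn, mul_inv_cancel_left]) hfix
  refine ⟨⟨y, hy⟩, ?_⟩
  rw [Subgroup.orderOf_mk, ← orderOf_injective (Matrix.GeneralLinearGroup.map (algebraMap F K))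
    (fun u v e => Units.ext (Matrix.map_injective (f := algebraMap F K) (algebraMap F K).injective
      (congrArg Units.val e))), hye]
  refine (MulEquiv.orderOf_eq (MulAut.conj g) _).trans ?_
  exact (orderOf_torC c).trans hc

set_option maxHeartbeats 800000 in
/-- A prime with a twisted torus fixing a root gives an element of order twice it. -/
theorem exists_double (hn : 1 ≤ n) (hF : Fintype.card F = 2 ^ n) (ω : List (Fin 4)) {ds : List ℕ}
    (hds : chkWordDs ω ds = true) (hd7 : ∀ d ∈ ds, d ∈ [1, 2, 3, 4, 6, 8, 12])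
    (hperm : (ω.map (wPerm (D := chevF4) goodWF4)).prod rootZ = rootZ)
    (hfixv : (List.range 4).all (fun j =>
      (applyL (wordMat ω) (rootV.getD 47 [])).getD j 0 == (rootV.getD 47 []).getD j 0) = true)
    (s : ℕ) [hs : Fact s.Prime] (hs2 : s ≠ 2)
    (hs1 : orderOf (Fintype.card F : ZMod s) ≠ 1)
    (hs' : orderOf (Fintype.card F : ZMod s) ∈ ds) :
    ∃ x : ↥(chevF4.group F), orderOf x = 2 * s := by
  classical
  set q := Fintype.card F with hq
  haveI : Fact (Nat.Prime 2) := ⟨Nat.prime_two⟩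
  haveI : CharP F 2 := charP_of_card_eq_prime_pow hF
  obtain ⟨f, -, hqf⟩ := FiniteField.card F 2
  let K := AlgebraicClosure F
  haveI : CharP K 2 := charP_of_injective_algebraMap (algebraMap F K).injective 2
  haveI : ExpChar K 2 := ExpChar.prime Nat.prime_two
  set w := CoxeterMatrix.F₄.toCoxeterSystem.wordProd ω with hw
  set B := (q : ℤ) • W4 w - 1 with hB
  have hBK : ((B.det.natAbs : ℕ) : K) ≠ 0 := by
    rw [Ne, CharP.cast_eq_zero_iff K 2]
    exact det_odd ω (two_dvd_card hn hF)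
  have hker := natCard_ker_monAct (K := K) hBK
  haveI : Finite (monAct (G := Kˣ) B).ker :=
    Nat.finite_of_card_ne_zero (hker ▸ fun h0 => hBK (by rw [h0, Nat.cast_zero]))
  obtain ⟨a, ha⟩ := exists_prime_orderOf_dvd_card' (G := (monAct (G := Kˣ) B).ker) s
    (hker ▸ dvd_det hds rfl hs' (hd7 _ hs'))
  set c : Fin 4 → Kˣ := (a : Fin 4 → Kˣ)
  have hc : orderOf c = s := by rw [Subgroup.orderOf_coe, ha]
  have hfix : monAct (W4 w) (c ^ q) = c := (mem_ker_iff_fix _ _ _).1 a.2
  have hq2 : 2 ≤ q := Fintype.one_lt_card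
  have hval : pv (wv 47) c = 1 := by
    refine pv_eq_one_of_fix hfix ?_ (by omega) ?_
    · funext j
      have h1 := List.all_eq_true.1 hfixv j (List.mem_range.2 j.2)
      rw [rootV_getD (by norm_num : (47 : ℕ) < 48), applyL_vecL, beq_iff_eq,
        List.getD_eq_getElem?_getD, List.getD_eq_getElem?_getD, getD_vecL, getD_vecL] at h1
      rw [hw, W4_wordProd]
      exact h1
    · rw [hc, hs.out.coprime_iff_not_dvd]
      intro hdvd
      refine hs1 (orderOf_eq_one_iff.2 ?_)
      have h1 := (ZMod.natCast_eq_zero_iff _ _).2 hdvd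
      rwa [Nat.cast_sub (by omega), Nat.cast_one, sub_eq_zero] at h1
  obtain ⟨g, hg, hgn⟩ := lang (D := chevF4) goodWF4 Weyl.rootF4_good det_cartan_ne 2 (f : ℕ) f.pos
    (monomial_le_group goodWF4 (nWord_mem goodWF4 K ω))
  have hσg : frobGL K 2 (f : ℕ) g = g * nWord goodWF4 K ω := by
    rw [← hgn, mul_inv_cancel_left]
  obtain ⟨y, hy, hye⟩ := exists_fixed_torC (D := chevF4) 2 (f : ℕ) goodWF4 Weyl.rootF4_good
    hinjF4 hqf ω hg hσg hfix
  have h20 : (2 : K) = 0 := by
    have := CharP.cast_eq_zero K 2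
    exact_mod_cast this
  obtain ⟨z, hz, hze⟩ := exists_fixed_X (D := chevF4) 2 (f : ℕ) goodWF4 Weyl.rootF4_good
    hinjF4 hqf h20 ω hperm hg hσg
  set ι := Matrix.GeneralLinearGroup.map (n := chevF4.Idx) (algebraMap F K)
  have hι : Function.Injective ι := fun u v e =>
    Units.ext (Matrix.map_injective (f := algebraMap F K) (algebraMap F K).injective
      (congrArg Units.val e))
  set X₁ := X (goodWF4 : GoodWeyl chevF4).good rootZ (1 : K)
  have hX : orderOf X₁ = 2 := by
    refine orderOf_eq_prime ?_ ?_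
    · rw [pow_two, X_mul, ← two_mul, mul_one, h20, X_zero]
    · intro h1
      rw [← X_zero (R := K) (goodWF4 : GoodWeyl chevF4).good rootZ] at h1
      exact one_ne_zero (X_injective _ _ h1)
  have hcomm : Commute X₁ (torC chevF4 c) := by
    have h1 := torC_mul_X (goodWF4 : GoodWeyl chevF4).good c rootZ (1 : K)
    have h2 : torVal (D := chevF4) c (Sum.inr rootZ) = 1 := hval
    rw [h2, Units.val_one, mul_one] at h1
    exact h1.symm
  refine ⟨⟨z * y, mul_mem hz hy⟩, ?_⟩
  rw [Subgroup.orderOf_mk, ← orderOf_injective ι hι, map_mul, hze, hye,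
    show g * X₁ * g⁻¹ * (g * torC chevF4 c * g⁻¹) = MulAut.conj g (X₁ * torC chevF4 c) by
      simp only [MulAut.conj_apply]; group]
  refine (MulEquiv.orderOf_eq (MulAut.conj g) _).trans ?_
  have ht : orderOf (torC chevF4 c) = s := (orderOf_torC c).trans hc
  rw [hcomm.orderOf_mul_eq_mul_orderOf_of_coprime
    (by rw [hX, ht]; exact (Nat.coprime_primes Nat.prime_two hs.out).2 (Ne.symm hs2)), hX, ht]

/-- A prime dividing `q - 1` gives an element of order twice it in the split torus. -/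
theorem exists_double_split (hF : Fintype.card F = 2 ^ n) (s : ℕ) [hs : Fact s.Prime]
    (hs2 : s ≠ 2) (hdvd : s ∣ Fintype.card F - 1) :
    ∃ x : ↥(chevF4.group F), orderOf x = 2 * s := by
  classical
  have h2 : (2 : F) = 0 := by
    haveI : Fact (Nat.Prime 2) := ⟨Nat.prime_two⟩
    haveI : CharP F 2 := charP_of_card_eq_prime_pow hF
    exact_mod_cast CharP.cast_eq_zero F 2
  obtain ⟨u, hu⟩ := exists_prime_orderOf_dvd_card' (G := Fˣ) s (by rwa [Nat.card_units,
    Nat.card_eq_fintype_card])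
  let c : Fin 4 → Fˣ := Pi.mulSingle 0 u
  have hc : orderOf c = s := by
    rw [← hu]
    exact orderOf_injective (MonoidHom.mulSingle (fun _ : Fin 4 => Fˣ) 0)
      (Pi.mulSingle_injective (M := fun _ : Fin 4 => Fˣ) 0) u
  set X₁ := X (goodWF4 : GoodWeyl chevF4).good rootZ (1 : F)
  have hX : orderOf X₁ = 2 := by
    refine orderOf_eq_prime ?_ ?_
    · rw [pow_two, X_mul, ← two_mul, mul_one, h2, X_zero]
    · intro h1
      rw [← X_zero (R := F) (goodWF4 : GoodWeyl chevF4).good rootZ] at h1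
      exact one_ne_zero (X_injective _ _ h1)
  have hval : torVal (D := chevF4) c (Sum.inr rootZ) = 1 := by
    show pv (wv 47) c = 1
    have hv : wv 47 0 = 0 := by decide +kernel
    simp [pv, Fin.prod_univ_four, c, hv]
  have hcomm : Commute X₁ (torC chevF4 c) := by
    have h1 := torC_mul_X (goodWF4 : GoodWeyl chevF4).good c rootZ (1 : F)
    rw [hval, Units.val_one, mul_one] at h1
    exact h1.symm
  refine ⟨⟨X₁ * torC chevF4 c, mul_mem (X_mem_group _ _ _)
    (diag_le_group goodWF4 (torC_mem_diag goodWF4 c))⟩, ?_⟩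
  have ht : orderOf (torC chevF4 c) = s := (orderOf_torC c).trans hc
  rw [Subgroup.orderOf_mk, hcomm.orderOf_mul_eq_mul_orderOf_of_coprime
    (by rw [hX, ht]; exact (Nat.coprime_primes Nat.prime_two hs.out).2 (Ne.symm hs2)), hX, ht]

end CfsgLib.FFourGraph
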