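import Cfsg.Agent.FFourGraph.Exist

/-!
# The prime graph of the groups F4(2^n)
-/

set_option autoImplicit false
set_option linter.style.haveILetI false

namespace CfsgLib.FFourGraph

open Cfsg.Lie CfsgLib.Chevalley

theorem wordA : chkWordDs [3, 1, 0] [3, 1, 2] = true := by decide +kernel
theorem wordB : chkWordDs [2, 1, 0] [6, 1, 2] = true := by decide +kernel
theorem wordC : chkWordDs [2, 1, 2, 1, 0] [4, 1, 2] = true := by decide +kernel
theorem wordD : chkWordDs [3, 2, 1, 2, 1, 0] [8] = true := by decide +kernel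
theorem wordE : chkWordDs [3, 2, 1, 0] [12] = true := by decide +kernel
theorem word2 : chkWordDs [0] [2, 1, 1, 1] = true := by decide +kernel
theorem word3 : chkWordDs [1, 0] [3, 1, 1] = true := by decide +kernel
theorem word4 : chkWordDs [2, 1] [4, 1, 1] = true := by decide +kernel

/-- The forbidden pairs. -/
def Listed (k l : ℕ) : Prop :=
  k < l ∧ (l = 8 ∨ l = 12 ∨ l = 6 ∧ (k = 3 ∨ k = 4) ∨ l = 4 ∧ k = 3)

variable {F : Type*} [Field F] [Fintype F] {n : ℕ}

theorem exists_two (hn : 1 ≤ n) (hF : Fintype.card F = 2 ^ n) (s : ℕ) [hs : Fact s.Prime]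
    (hs2 : s ≠ 2) (hse : orderOf (Fintype.card F : ZMod s) ∈ [1, 2, 3, 4, 6]) :
    ∃ x : ↥(chevF4.group F), orderOf x = 2 * s := by
  have hd7 : ∀ (ds : List ℕ), (∀ d ∈ ds, d ∈ [1, 2, 3, 4, 6]) →
      ∀ d ∈ ds, d ∈ [1, 2, 3, 4, 6, 8, 12] := fun ds h d hd => by
    have := h d hd
    revert this
    simp only [List.mem_cons, List.not_mem_nil, or_false]
    omega
  generalize he : orderOf (Fintype.card F : ZMod s) = e at hse
  simp only [List.mem_cons, List.not_mem_nil, or_false] at hse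
  rcases hse with rfl | rfl | rfl | rfl | rfl
  · refine exists_double_split hF s hs2 ((ZMod.natCast_eq_zero_iff _ _).1 ?_)
    rw [Nat.cast_sub Fintype.card_pos, Nat.cast_one, orderOf_eq_one_iff.1 he, sub_self]
  · exact exists_double hn hF [0] word2 (hd7 _ (by decide)) (by decide +kernel) (by decide +kernel)
      s hs2 (by rw [he]; decide) (by rw [he]; decide)
  · exact exists_double hn hF [1, 0] word3 (hd7 _ (by decide)) (by decide +kernel) (by decide +kernel)
      s hs2 (by rw [he]; decide) (by rw [he]; decide)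
  · exact exists_double hn hF [2, 1] word4 (hd7 _ (by decide)) (by decide +kernel) (by decide +kernel)
      s hs2 (by rw [he]; decide) (by rw [he]; decide)
  · exact exists_double hn hF [2, 1, 0] wordB (hd7 _ (by decide)) (by decide +kernel)
      (by decide +kernel) s hs2 (by rw [he]; decide) (by rw [he]; decide)

theorem exists_odd (hn : 1 ≤ n) (hF : Fintype.card F = 2 ^ n) (r s : ℕ) [hr : Fact r.Prime]
    [hs : Fact s.Prime] (hrs : r ≠ s) {k l : ℕ} (hk : orderOf (Fintype.card F : ZMod r) = k)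
    (hl : orderOf (Fintype.card F : ZMod s) = l) (hk7 : k ∈ [1, 2, 3, 4, 6, 8, 12])
    (hl7 : l ∈ [1, 2, 3, 4, 6, 8, 12]) (h1 : ¬ Listed k l) (h2 : ¬ Listed l k) :
    ∃ x : ↥(chevF4.group F), orderOf x = r * s := by
  have key : (k ∈ [3, 1, 2] ∧ l ∈ [3, 1, 2]) ∨ (k ∈ [6, 1, 2] ∧ l ∈ [6, 1, 2]) ∨
      (k ∈ [4, 1, 2] ∧ l ∈ [4, 1, 2]) ∨ (k ∈ [8] ∧ l ∈ [8]) ∨ (k ∈ [12] ∧ l ∈ [12]) := by
    simp only [Listed] at h1 h2
    simp only [List.mem_cons, List.not_mem_nil, or_false] at hk7 hl7 ⊢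
    rcases hk7 with rfl | rfl | rfl | rfl | rfl | rfl | rfl <;>
      rcases hl7 with rfl | rfl | rfl | rfl | rfl | rfl | rfl <;>
        simp at h1 h2 ⊢
  subst hk hl
  rcases key with h | h | h | h | h
  · exact exists_pair hn hF _ wordA (by decide) r s hrs h.1 h.2
  · exact exists_pair hn hF _ wordB (by decide) r s hrs h.1 h.2
  · exact exists_pair hn hF _ wordC (by decide) r s hrs h.1 h.2
  · exact exists_pair hn hF _ wordD (by decide) r s hrs h.1 h.2
  · exact exists_pair hn hF _ wordE (by decide) r s hrs h.1 h.2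

theorem main (hn : 1 ≤ n) (hF : Fintype.card F = 2 ^ n) (r s : ℕ) (hr : r.Prime) (hs : s.Prime)
    (hrs : r ≠ s) (hrG : r ∣ Nat.card ↥(chevF4.group F)) (hsG : s ∣ Nat.card ↥(chevF4.group F)) :
    (¬ ∃ x : ↥(chevF4.group F), orderOf x = r * s) ↔
      (r = 2 ∧ orderOf (Fintype.card F : ZMod s) ∈ [8, 12]) ∨
      (s = 2 ∧ orderOf (Fintype.card F : ZMod r) ∈ [8, 12]) ∨
      (r ≠ 2 ∧ s ≠ 2 ∧ (Listed (orderOf (Fintype.card F : ZMod r)) (orderOf (Fintype.card F : ZMod s)) ∨
        Listed (orderOf (Fintype.card F : ZMod s)) (orderOf (Fintype.card F : ZMod r)))) := by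
  have hord : ∀ t : ℕ, t.Prime → t ∣ Nat.card ↥(chevF4.group F) → t ≠ 2 →
      ¬ t ∣ Fintype.card F ∧ orderOf (Fintype.card F : ZMod t) ∈ [1, 2, 3, 4, 6, 8, 12] := by
    intro t ht htG ht2
    haveI := Fact.mk ht
    rw [natCard_group (F := F) rfl] at htG
    exact order_mem ht2 ⟨n, hF⟩ htG
  have h24 : ∀ m ∈ [1, 2, 3, 4, 6, 8, 12], m ∣ 24 := by decide
  have h4 : ∀ {k l : ℕ}, Listed k l → l ∈ [4, 6, 8, 12] := by
    rintro k l ⟨-, rfl | rfl | ⟨rfl, -⟩ | ⟨rfl, -⟩⟩ <;> decide
  constructor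
  · intro hno
    rcases eq_or_ne r 2 with rfl | hr2
    · haveI := Fact.mk hs
      refine Or.inl ⟨rfl, ?_⟩
      by_contra hne
      refine hno (exists_two hn hF s hrs.symm ?_)
      have := (hord s hs hsG hrs.symm).2
      revert this hne
      simp only [List.mem_cons, List.not_mem_nil, or_false]
      omega
    rcases eq_or_ne s 2 with rfl | hs2
    · haveI := Fact.mk hr
      refine Or.inr (Or.inl ⟨rfl, ?_⟩)
      by_contra hne
      refine hno ?_
      rw [Nat.mul_comm]
      refine exists_two hn hF r hr2 ?_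
      have := (hord r hr hrG hr2).2
      revert this hne
      simp only [List.mem_cons, List.not_mem_nil, or_false]
      omega
    haveI := Fact.mk hr
    haveI := Fact.mk hs
    refine Or.inr (Or.inr ⟨hr2, hs2, ?_⟩)
    by_contra hne
    rw [not_or] at hne
    exact hno (exists_odd hn hF r s hrs rfl rfl (hord r hr hrG hr2).2 (hord s hs hsG hs2).2
      hne.1 hne.2)
  · rintro h ⟨x, hx⟩
    haveI := Fact.mk hr
    haveI := Fact.mk hs
    rcases h with ⟨rfl, h⟩ | ⟨rfl, h⟩ | ⟨hr2, hs2, h | h⟩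
    · exact not_exists hF 2 s hrs hrs.symm (hord s hs hsG hrs.symm).1
        (by revert h; simp only [List.mem_cons, List.not_mem_nil, or_false]; omega)
        (fun h0 => absurd rfl h0) (Or.inl ⟨rfl, h⟩) x hx
    · exact not_exists hF 2 r hrs.symm hrs (hord r hr hrG hrs).1
        (by revert h; simp only [List.mem_cons, List.not_mem_nil, or_false]; omega)
        (fun h0 => absurd rfl h0) (Or.inl ⟨rfl, h⟩) x (by rw [hx, Nat.mul_comm])
    · exact not_exists hF r s hrs hs2 (hord s hs hsG hs2).1 (h4 h)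
        (fun h0 => ⟨(hord r hr hrG h0).1, h24 _ (hord r hr hrG h0).2⟩) (Or.inr ⟨hr2, h⟩) x hx
    · exact not_exists hF s r hrs.symm hr2 (hord r hr hrG hr2).1 (h4 h)
        (fun h0 => ⟨(hord s hs hsG h0).1, h24 _ (hord s hs hsG h0).2⟩) (Or.inr ⟨hs2, h⟩) x
        (by rw [hx, Nat.mul_comm])

end CfsgLib.FFourGraph
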