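import Cfsg.Agent.FFourGraph.Weyl
import Cfsg.Agent.FFourGraph.Arith
import Cfsg.Agent.SylowTori.Descend
import Cfsg.Agent.LangTorus.Main
import Cfsg.Agent.LangTorus.DataF4
import Cfsg.Agent.LangTorus.GoodF4
import Cfsg.Agent.ChevTorus.Order

/-!
# Twisted fixed points on the torus of type F4
-/

set_option autoImplicit false

namespace CfsgLib.FFourGraph

open Cfsg.Lie CfsgLib.Chevalley CfsgLib.ChevTorus CfsgLib.CoxTori CfsgLib.TorusWeyl
  CfsgLib.LangTorus CfsgLib.LangChev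
open scoped Matrix MatrixGroups

variable {G : Type*} [CommGroup G]

/-- The value of a weight on a tuple. -/
def pv (v : Fin 4 → ℤ) (c : Fin 4 → G) : G := ∏ k, c k ^ v k

theorem pv_monAct (A : Matrix (Fin 4) (Fin 4) ℤ) (v : Fin 4 → ℤ) (c : Fin 4 → G) :
    pv v (monAct A c) = pv (A *ᵥ v) c := by
  simp only [pv, monAct, MonoidHom.coe_mk, OneHom.coe_mk, Matrix.mulVec, dotProduct,
    Fin.sum_univ_four, Fin.prod_univ_four, mul_zpow, zpow_add, ← zpow_mul]
  ac_rfl

theorem pv_add (u v : Fin 4 → ℤ) (c : Fin 4 → G) : pv (u + v) c = pv u c * pv v c := by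
  simp only [pv, Pi.add_apply, zpow_add, Finset.prod_mul_distrib]

theorem pv_pow (v : Fin 4 → ℤ) (c : Fin 4 → G) (m : ℕ) : pv v (c ^ m) = pv v c ^ m := by
  simp only [pv, Pi.pow_apply, ← Finset.prod_pow]
  refine Finset.prod_congr rfl fun k _ => ?_
  rw [← zpow_natCast, ← zpow_natCast, ← zpow_mul, ← zpow_mul, mul_comm]

theorem pv_one (v : Fin 4 → ℤ) : pv v (1 : Fin 4 → G) = 1 := by simp [pv]

theorem monAct_smul_sub_one (A : Matrix (Fin 4) (Fin 4) ℤ) (q : ℕ) (c : Fin 4 → G) :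
    monAct ((q : ℤ) • A - 1) c = monAct A (c ^ q) / c := by
  funext j
  simp only [monAct, MonoidHom.coe_mk, OneHom.coe_mk, Matrix.sub_apply, Matrix.smul_apply,
    smul_eq_mul, zpow_sub, Pi.div_apply, Pi.pow_apply, ← div_eq_mul_inv,
    Finset.prod_div_distrib]
  congr 1
  · refine Finset.prod_congr rfl fun k _ => ?_
    rw [zpow_mul, zpow_natCast]
  · rw [Finset.prod_eq_single j (fun k _ hk => by simp [Matrix.one_apply_ne hk]) (by simp)]
    simp

theorem mem_ker_iff_fix (A : Matrix (Fin 4) (Fin 4) ℤ) (q : ℕ) (c : Fin 4 → G) :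
    monAct ((q : ℤ) • A - 1) c = 1 ↔ monAct A (c ^ q) = c := by
  rw [monAct_smul_sub_one, div_eq_one]

/-- The weight of a root of type F4. -/
def wv (r : ℕ) : Fin 4 → ℤ := fun m => chevF4.cartan m r

theorem torVal_eq_pv {K : Type*} [Field K] (c : Fin 4 → Kˣ) (r : Root chevF4) :
    torVal (D := chevF4) c (Sum.inr r) = pv (wv r) c := rfl

/-- The word as a matrix. -/
def wordMat : List (Fin 4) → List ℤ
  | [] => idL
  | i :: ω => stepL i (wordMat ω)

theorem W4_wordProd : ∀ ω : List (Fin 4),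
    W4 (CoxeterMatrix.F₄.toCoxeterSystem.wordProd ω) = toM (wordMat ω)
  | [] => by rw [CoxeterSystem.wordProd_nil, wordMat, toM_idL]; exact wMat_one _
  | i :: ω => by
    rw [CoxeterSystem.wordProd_cons, CoxeterMatrix.toCoxeterSystem_simple, wordMat, toM_step,
      ← W4_wordProd ω]
    exact wMat_mul _ _ _

theorem det_word (ω : List (Fin 4)) (x : ℤ) :
    (x • W4 (CoxeterMatrix.F₄.toCoxeterSystem.wordProd ω) - 1).det =
      pev x (coeffs (ent (wordMat ω))) := by
  rw [W4_wordProd, det_smul_sub_one]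

section Fix

variable {q : ℕ} {w : CoxeterMatrix.F₄.Group} {c : Fin 4 → G}

/-- Twisted fixed points are killed by the determinant. -/
theorem orderOf_dvd_det (hfix : monAct (W4 w) (c ^ q) = c) :
    orderOf c ∣ ((q : ℤ) • W4 w - 1).det.natAbs :=
  orderOf_dvd_of_pow_eq_one
    (CfsgLib.SylowTori.pow_natAbs_det_eq_one ((mem_ker_iff_fix _ _ _).2 hfix))

/-- A twisted fixed point of prime order at least five is regular, for the elements with an
irreducible characteristic polynomial. -/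
theorem regular_of_fix (hfix : monAct (W4 w) (c ^ q) = c) {s : ℕ} (hs : s.Prime) (hs5 : 5 ≤ s)
    (hc : orderOf c = s) (hsq : ¬ s ∣ q)
    (hspan : ∀ r < 48, ∀ B : Matrix (Fin 4) (Fin 4) ℤ,
      (∀ k j : Fin 4, B k j = (W4 w ^ (k : ℕ) *ᵥ wv r) j) → B.det.natAbs ∣ 6 ^ 8)
    (r : ℕ) (hr : r < 48) : pv (wv r) c ≠ 1 := by
  intro h1
  have hcs : c ^ s = 1 := hc ▸ pow_orderOf_eq_one c
  have hstep : ∀ v, pv v c = 1 → pv (W4 w *ᵥ v) c = 1 := by
    intro v hv
    have e1 : pv (W4 w *ᵥ v) c ^ q = 1 := by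
      rw [← pv_pow, ← pv_monAct, hfix, hv]
    have e2 : pv (W4 w *ᵥ v) c ^ s = 1 := by rw [← pv_pow, hcs, pv_one]
    have h3 := Nat.dvd_gcd (orderOf_dvd_of_pow_eq_one e1) (orderOf_dvd_of_pow_eq_one e2)
    rw [Nat.coprime_comm.1 ((hs.coprime_iff_not_dvd).2 hsq)] at h3
    exact orderOf_eq_one_iff.1 (Nat.dvd_one.1 h3)
  have hall : ∀ k : ℕ, pv (W4 w ^ k *ᵥ wv r) c = 1 := by
    intro k
    induction k with
    | zero => rwa [pow_zero, Matrix.one_mulVec]
    | succ k ih => rw [pow_succ', ← Matrix.mulVec_mulVec]; exact hstep _ ih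
  let B : Matrix (Fin 4) (Fin 4) ℤ := fun k j => (W4 w ^ (k : ℕ) *ᵥ wv r) j
  have hB : monAct Bᵀ c = 1 := funext fun k => hall k
  have h2 := orderOf_dvd_of_pow_eq_one (CfsgLib.SylowTori.pow_natAbs_det_eq_one hB)
  rw [hc, Matrix.det_transpose] at h2
  have h4 := hs.dvd_of_dvd_pow (h2.trans (hspan r hr B fun k j => rfl))
  have := Nat.le_of_dvd (by norm_num) h4
  interval_cases s <;> norm_num at *

/-- A regular element of prime order at least five is fixed only by the trivial element. -/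
theorem eq_one_of_regular {s : ℕ} (hs : s.Prime) (hs5 : 5 ≤ s) (hc : orderOf c = s)
    (hreg : ∀ r < 48, pv (wv r) c ≠ 1) (hw : monAct (W4 w) c = c) : w = 1 := by
  by_contra hne
  obtain ⟨r, hr, m, hm, hsum⟩ := exists_orbit_sum_zero hne
  change ∑ i ∈ Finset.range m, W4 w ^ i *ᵥ wv r = 0 at hsum
  have hall : ∀ k : ℕ, pv (W4 w ^ k *ᵥ wv r) c = pv (wv r) c := by
    intro k
    induction k with
    | zero => rw [pow_zero, Matrix.one_mulVec]
    | succ k ih => rw [pow_succ', ← Matrix.mulVec_mulVec, ← pv_monAct, hw, ih]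
  have key : ∀ m : ℕ, pv (∑ i ∈ Finset.range m, W4 w ^ i *ᵥ wv r) c = pv (wv r) c ^ m := by
    intro m
    induction m with
    | zero => simp [pv]
    | succ m ih => rw [Finset.sum_range_succ, pv_add, ih, hall, pow_succ]
  have e1 : pv (wv r) c ^ 24 = 1 := by
    obtain ⟨t, ht⟩ := hm
    rw [ht, pow_mul, ← key, hsum]; simp [pv]
  have e2 : pv (wv r) c ^ s = 1 := by rw [← pv_pow, ← hc, pow_orderOf_eq_one, pv_one]
  have h3 := Nat.dvd_gcd (orderOf_dvd_of_pow_eq_one e1) (orderOf_dvd_of_pow_eq_one e2)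
  rw [Nat.coprime_comm.1 ((hs.coprime_iff_not_dvd).2 fun hd => by
    have := Nat.le_of_dvd (by norm_num) hd
    interval_cases s <;> norm_num at *)] at h3
  exact hreg r hr (orderOf_eq_one_iff.1 (Nat.dvd_one.1 h3))

/-- The value at a fixed root is trivial when the order is prime to `q - 1`. -/
theorem pv_eq_one_of_fix (hfix : monAct (W4 w) (c ^ q) = c) {v : Fin 4 → ℤ}
    (hv : W4 w *ᵥ v = v) (hq : 1 ≤ q) (hco : (orderOf c).Coprime (q - 1)) : pv v c = 1 := by
  have e1 : pv v c ^ (q - 1) = 1 := by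
    have e : pv v c ^ q = pv v c := by
      calc pv v c ^ q = pv (W4 w *ᵥ v) (c ^ q) := by rw [hv, pv_pow]
        _ = pv v c := by rw [← pv_monAct, hfix]
    rw [← Nat.sub_add_cancel hq, pow_succ] at e
    exact mul_eq_right.1 e
  have e2 : pv v c ^ orderOf c = 1 := by rw [← pv_pow, pow_orderOf_eq_one, pv_one]
  have h3 := Nat.dvd_gcd (orderOf_dvd_of_pow_eq_one e2) (orderOf_dvd_of_pow_eq_one e1)
  rw [hco] at h3
  exact orderOf_eq_one_iff.1 (Nat.dvd_one.1 h3)

end Fix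

end CfsgLib.FFourGraph
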