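import Cfsg.Agent.FFourGraph.CheckEval
import Cfsg.Agent.LangTorus.TorConj
import Cfsg.Agent.Weyl.RootF4

/-!
# Properties of the elements of the Weyl group of type F4 acting on a torus
-/

set_option autoImplicit false

namespace CfsgLib.FFourGraph

open Cfsg.Lie CfsgLib.Chevalley CfsgLib.CoxTori CfsgLib.TorusWeyl
open scoped Matrix

/-- The matrix of a list of entries. -/
def toM (E : List ℤ) : Matrix (Fin 4) (Fin 4) ℤ := fun j l => ent E j l

/-- The matrix of the action of a Weyl group element on the torus. -/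
noncomputable def W4 (w : CoxeterMatrix.F₄.Group) : Matrix (Fin 4) (Fin 4) ℤ :=
  wMat (D := chevF4) Weyl.rootF4_good w

theorem rootV_eq : rootV =
    (List.range 48).map fun r => (List.range 4).map fun k => chevF4.cartan k r := by decide +kernel

theorem W4_simple (i : Fin 4) (j l : Fin 4) : W4 (CoxeterMatrix.F₄.simple i) j l =
    (if j = l then 1 else 0) - if l = i then Weyl.certF4.a (n := 4) j i else 0 := by
  have h0 : (CoxeterMatrix.F₄.simple i)⁻¹ = CoxeterMatrix.F₄.simple i :=
    CoxeterMatrix.F₄.toCoxeterSystem.inv_simple i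
  show wMat (D := chevF4) Weyl.rootF4_good _ j l = _
  show repMat (D := chevF4) Weyl.rootF4_good _ j l = _
  refine (congrArg (fun z => repMat (D := chevF4) Weyl.rootF4_good z j l) h0).trans ?_
  refine (repMat_apply _ _ _ _).trans ?_
  show Weyl.certF4_good.rep _ _ _ = _
  rw [Weyl.certF4_good.rep_simple]
  show Weyl.certF4.reflFun (n := 4) i (Pi.single l 1) j = _
  unfold Weyl.Cert.reflFun
  rw [Pi.single_apply, Pi.single_apply]
  rcases eq_or_ne l i with rfl | hne
  · split <;> rename_i h <;> simp [h]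
  · rw [if_neg hne, if_neg (Ne.symm hne)]
    split <;> simp

theorem toM_step (i : Fin 4) (E : List ℤ) :
    toM (stepL i E) = toM E * W4 (CoxeterMatrix.F₄.simple i) := by
  ext j l
  rw [Matrix.mul_apply]
  simp only [W4_simple, toM]
  have h1 : ent (stepL i E) j l = ent E j l -
      if (l : ℕ) = i then
        ((List.range 4).map fun k => ent E j k * Weyl.certF4.a (n := 4) k i).sum else 0 := by
    fin_cases j <;> fin_cases l <;> rfl
  rw [h1]
  simp only [List.range_succ, List.range_zero, List.nil_append, List.map_append, List.map_cons,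
    List.map_nil, List.sum_append, List.sum_cons, List.sum_nil, Fin.sum_univ_four]
  fin_cases l <;> fin_cases i <;> simp <;> ring

theorem toM_idL : toM idL = 1 := by
  ext j l
  fin_cases j <;> fin_cases l <;> rfl

theorem entryAt_mem {n : ℕ} {e : ℕ × ℕ} (h : entryAt n = some e) :
    ∃ ch ∈ wData, e ∈ ch := by
  rcases Option.bind_eq_some_iff.1 h with ⟨ch, h1, h2⟩
  exact ⟨ch, List.mem_of_getElem? h1, List.mem_of_getElem? h2⟩

/-- Every element of the Weyl group occurs in the list. -/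
theorem exists_entry (w : CoxeterMatrix.F₄.Group) :
    ∃ ch ∈ wData, ∃ e ∈ ch, W4 w = toM (matE e.1) := by
  induction w using CoxeterMatrix.F₄.toCoxeterSystem.simple_induction_left with
  | one =>
    obtain ⟨e, he, he1⟩ := Option.map_eq_some_iff.1 id_ok
    obtain ⟨ch, hch, hmem⟩ := entryAt_mem he
    exact ⟨ch, hch, e, hmem, by rw [he1, toM_idL]; exact wMat_one _⟩
  | mul_simple_left w i ih =>
    obtain ⟨ch, hch, e, he, hw⟩ := ih
    have h1 := List.all_eq_true.1 (closed_all ch hch) e he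
    have h2 := List.all_eq_true.1 h1 i (List.mem_range.2 i.2)
    split at h2
    · rename_i x hx
      obtain ⟨ch', hch', hmem⟩ := entryAt_mem hx
      refine ⟨ch', hch', x, hmem, ?_⟩
      rw [beq_iff_eq.1 h2, toM_step, ← hw, CoxeterMatrix.toCoxeterSystem_simple]
      exact wMat_mul _ _ _
    · simp at h2

theorem det_fin_four (A : Matrix (Fin 4) (Fin 4) ℤ) (a : ℕ → ℕ → ℤ)
    (ha : ∀ i j : Fin 4, A i j = a i j) : A.det = d4 a := by
  rw [Matrix.det_succ_row_zero]
  simp [Fin.sum_univ_succ, Matrix.det_fin_three, Fin.succAbove, ha, d4, m2]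
  ring

theorem det_smul_sub_one (E : List ℤ) (x : ℤ) :
    (x • toM E - 1).det = pev x (coeffs (ent E)) := by
  rw [det_fin_four _ (fun i j => x * ent E i j - if i = j then 1 else 0) (fun i j => by
    simp only [toM, Matrix.sub_apply, Matrix.smul_apply, Matrix.one_apply, smul_eq_mul, Fin.ext_iff])]
  simp [d4, coeffs, m2, m3]
  ring

/-- A vector as a list. -/
def vecL (v : Fin 4 → ℤ) : List ℤ := [v 0, v 1, v 2, v 3]

theorem applyL_vecL (E : List ℤ) (v : Fin 4 → ℤ) : applyL E (vecL v) = vecL (toM E *ᵥ v) := by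
  simp [applyL, vecL, Matrix.mulVec, dotProduct, Fin.sum_univ_four, toM]

theorem getD_vecL (v : Fin 4 → ℤ) (j : Fin 4) : (vecL v)[(j : ℕ)]?.getD 0 = v j := by
  fin_cases j <;> rfl

theorem rootV_getD {r : ℕ} (hr : r < 48) :
    rootV.getD r [] = vecL fun m : Fin 4 => chevF4.cartan m r := by
  rw [rootV_eq, List.getD_eq_getElem?_getD, List.getElem?_map, List.getElem?_range hr]
  rfl

theorem span_fact {E : List ℤ} (hs : chkSpan E = true) (r : ℕ) (hr : r < 48)
    (B : Matrix (Fin 4) (Fin 4) ℤ)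
    (hB : ∀ k j : Fin 4, B k j = (toM E ^ (k : ℕ) *ᵥ fun m : Fin 4 => chevF4.cartan m r) j) :
    B.det.natAbs ∣ 6 ^ 8 := by
  have hmem : rootV.getD r [] ∈ rootV := by
    have hlen : r < rootV.length := by
      rw [show rootV.length = 48 from rfl]; exact hr
    rw [List.getD_eq_getElem _ _ hlen]
    exact List.getElem_mem hlen
  have h2 := List.all_eq_true.1 hs _ hmem
  rw [rootV_getD hr] at h2
  simp only [decide_eq_true_eq, applyL_vecL] at h2
  rw [det_fin_four B _ fun k j => ?_]
  · exact h2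
  rw [hB]
  fin_cases k <;>
    simp [pow_succ', ← Matrix.mulVec_mulVec, getD_vecL]

/-- The determinant of `x w - 1` is a product of cyclotomic values. -/
theorem det_eq (w : CoxeterMatrix.F₄.Group) : ∃ ds : List ℕ,
    (∀ d ∈ ds, d ∈ [1, 2, 3, 4, 6, 8, 12]) ∧ ¬(3 ∈ ds ∧ 4 ∈ ds) ∧ ¬(3 ∈ ds ∧ 6 ∈ ds) ∧
    ¬(4 ∈ ds ∧ 6 ∈ ds) ∧ (8 ∈ ds → ds = [8]) ∧ (12 ∈ ds → ds = [12]) ∧
    (∀ x : ℤ, (x • W4 w - 1).det.natAbs = (pev x (cycProd ds)).natAbs) ∧
    ((8 ∈ ds ∨ 12 ∈ ds) → ∀ r < 48, ∀ B : Matrix (Fin 4) (Fin 4) ℤ,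
      (∀ k j : Fin 4, B k j = (W4 w ^ (k : ℕ) *ᵥ fun m : Fin 4 => chevF4.cartan m r) j) →
        B.det.natAbs ∣ 6 ^ 8) := by
  obtain ⟨ch, hch, e, he, hw⟩ := exists_entry w
  have h := List.all_eq_true.1 (mat_all ch hch) e he
  simp only [chkMat, Bool.and_eq_true] at h
  obtain ⟨h, -⟩ := h
  split at h
  · rename_i t ht
    have hmem := List.mem_of_find?_eq_some ht
    have hc : t.1 = coeffs (ent (matE e.1)) := by simpa using List.find?_some ht
    have htab := List.all_eq_true.1 tab_ok t hmem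
    simp only [Bool.and_eq_true, Bool.or_eq_true, List.all_eq_true, Bool.not_eq_true',
      List.contains_iff_mem, beq_iff_eq,
      Bool.eq_false_iff, ne_eq, and_assoc] at htab
    obtain ⟨hp, hd, h34, h36, h46, h8, h12⟩ := htab
    refine ⟨t.2, fun d hd' => hd d hd', fun hh => by tauto, fun hh => by tauto, fun hh => by tauto,
      fun hh => by tauto, fun hh => by tauto, fun x => ?_, fun hds r hr B hB => ?_⟩
    · rw [hw, det_smul_sub_one, ← hc]
      rcases hp with hp | hp
      · rw [pev_eq_of_peq hp]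
      · rw [pev_eq_of_peq hp, pev_pneg, Int.natAbs_neg]
    · simp only [Bool.or_eq_true, Bool.not_eq_true', Bool.eq_false_iff,
        ne_eq, List.contains_iff_mem] at h
      exact span_fact (by tauto) r hr B fun k j => by rw [hB, hw]
  · simp at h

theorem orbSum_eq (E : List ℤ) : ∀ (k : ℕ) (v : Fin 4 → ℤ),
    orbSum E k (vecL v) = vecL (∑ i ∈ Finset.range k, toM E ^ i *ᵥ v)
  | 0, v => rfl
  | k + 1, v => by
    rw [orbSum, applyL_vecL, orbSum_eq E k, Finset.sum_range_succ', pow_zero, Matrix.one_mulVec]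
    simp [vecL, pow_succ, ← Matrix.mulVec_mulVec, add_comm]

/-- A nontrivial element has a root whose orbit sums to zero. -/
theorem exists_orbit_sum_zero {w : CoxeterMatrix.F₄.Group} (hw1 : w ≠ 1) :
    ∃ r < 48, ∃ k, k ∣ 24 ∧ ∑ i ∈ Finset.range k, W4 w ^ i *ᵥ (fun m : Fin 4 => chevF4.cartan m r) = 0 := by
  obtain ⟨ch, hch, e, he, hw⟩ := exists_entry w
  have h := List.all_eq_true.1 (mat_all ch hch) e he
  simp only [chkMat, Bool.and_eq_true, Bool.or_eq_true, beq_iff_eq, decide_eq_true_eq] at h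
  rcases h.2 with hid | ⟨⟨hk, hr⟩, hsum⟩
  · exfalso
    refine hw1 (inv_eq_one.1 (Weyl.certF4_good.rep_injective ?_))
    rw [map_one]
    refine LinearMap.ext fun u => ?_
    have h1 : wMat (D := chevF4) Weyl.rootF4_good w = 1 := by
      show W4 w = 1
      rw [hw, hid, toM_idL]
    show Weyl.certF4_good.rep w⁻¹ u = u
    have hh := repMat_mulVec (D := chevF4) Weyl.rootF4_good
    refine (hh _ u).symm.trans ?_
    show wMat (D := chevF4) Weyl.rootF4_good w *ᵥ u = u
    rw [h1]
    exact Matrix.one_mulVec _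
  · set r := e.2 / 2048 ^ 4 % 2048
    set k := e.2 / 2048 ^ 5 % 2048
    refine ⟨r, hr, k, Nat.dvd_of_mod_eq_zero hk, ?_⟩
    rw [rootV_getD hr, orbSum_eq] at hsum
    simp only [vecL, List.cons.injEq, and_true] at hsum
    rw [hw]
    funext j
    fin_cases j
    · exact hsum.1
    · exact hsum.2.1
    · exact hsum.2.2.1
    · exact hsum.2.2.2

end CfsgLib.FFourGraph
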